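import Cfsg.Agent.Lib.ThreeCl.Tools

/-!
# Solvable groups in which all noncentral primary elements have the same class size

Let `K` be a finite solvable nonabelian group in which every primary element outside the centre has
class size `f`.  Then `f` is a prime power.
-/

set_option autoImplicit false
set_option linter.style.haveILetI false
set_option linter.unusedSectionVars false
set_option linter.unusedVariables false

namespace Cfsg.Agent.Lib.ThreeCl.ThmF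

open Subgroup Cfsg
open Cfsg.Agent.Lib.ClassGraph.Basic Cfsg.Agent.Lib.ClassGraph.Top Cfsg.Agent.Lib.ThreeCl
open scoped commutatorElement

universe u

section Comm

variable {K : Type*} [Group K]

theorem comm_mul_left {c d t : K} (h : ⁅d, t⁆ ∈ center K) : ⁅c * d, t⁆ = ⁅c, t⁆ * ⁅d, t⁆ := by
  have hz := mem_center_iff.1 h c
  have hz2 := mem_center_iff.1 h ⁅c, t⁆
  have e : d * t * d⁻¹ = ⁅d, t⁆ * t := by simp [commutatorElement_def]
  rw [hz2]
  calc ⁅c * d, t⁆ = c * (d * t * d⁻¹) * c⁻¹ * t⁻¹ := by simp [commutatorElement_def]; group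
    _ = (c * ⁅d, t⁆) * t * c⁻¹ * t⁻¹ := by rw [e]; group
    _ = ⁅d, t⁆ * ⁅c, t⁆ := by rw [hz, commutatorElement_def]; group

theorem comm_mul_right {c t s : K} (h : ⁅c, s⁆ ∈ center K) : ⁅c, t * s⁆ = ⁅c, t⁆ * ⁅c, s⁆ := by
  have hz := mem_center_iff.1 h t⁻¹
  have hz2 := mem_center_iff.1 h ⁅c, t⁆
  have e : c * s * c⁻¹ = ⁅c, s⁆ * s := by simp [commutatorElement_def]
  calc ⁅c, t * s⁆ = (c * t * c⁻¹) * (c * s * c⁻¹) * s⁻¹ * t⁻¹ := by
        simp [commutatorElement_def]; group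
    _ = (c * t * c⁻¹) * (⁅c, s⁆ * t⁻¹) := by rw [e]; group
    _ = ⁅c, t⁆ * ⁅c, s⁆ := by rw [← hz, commutatorElement_def]; group

theorem comm_inv_left {c t : K} (h : ⁅c, t⁆ ∈ center K) : ⁅c⁻¹, t⁆ = ⁅c, t⁆⁻¹ := by
  have := comm_mul_left (c := c⁻¹) h
  rw [inv_mul_cancel, commutatorElement_one_left] at this
  exact (eq_inv_of_mul_eq_one_left this.symm)

theorem comm_inv_right {c t : K} (h : ⁅c, t⁆ ∈ center K) : ⁅c, t⁻¹⁆ = ⁅c, t⁆⁻¹ := by
  have := comm_mul_right (t := t⁻¹) h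
  rw [inv_mul_cancel, commutatorElement_one_right] at this
  exact (eq_inv_of_mul_eq_one_left this.symm)

theorem comm_conj (g c s : K) : ⁅c, g * s * g⁻¹⁆ = g * ⁅g⁻¹ * c * g, s⁆ * g⁻¹ := by
  simp [commutatorElement_def]
  group

theorem comm_conj_left (g c s : K) : ⁅g * c * g⁻¹, s⁆ = g * ⁅c, g⁻¹ * s * g⁆ * g⁻¹ := by
  simp [commutatorElement_def]
  group

theorem conj_central {z : K} (h : z ∈ center K) (g : K) : g * z * g⁻¹ = z := by
  rw [mem_center_iff.1 h g]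
  group

/-- Elements with all commutators with `T` central. -/
def C2 (T : Subgroup K) : Subgroup K where
  carrier := {c | ∀ t ∈ T, ⁅c, t⁆ ∈ center K}
  one_mem' := by
    intro t _
    rw [commutatorElement_one_left]
    exact one_mem _
  mul_mem' := by
    intro a b ha hb t ht
    rw [comm_mul_left (hb t ht)]
    exact mul_mem (ha t ht) (hb t ht)
  inv_mem' := by
    intro a ha t ht
    rw [comm_inv_left (ha t ht)]
    exact inv_mem (ha t ht)

theorem mem_C2 {T : Subgroup K} {c : K} : c ∈ C2 T ↔ ∀ t ∈ T, ⁅c, t⁆ ∈ center K := Iff.rfl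

instance C2_normal (T : Subgroup K) [hT : T.Normal] : (C2 T).Normal := by
  constructor
  intro c hc g t ht
  have h1 : g⁻¹ * t * g ∈ T := by simpa using hT.conj_mem t ht g⁻¹
  rw [comm_conj_left, conj_central (hc _ h1)]
  exact hc _ h1

/-- The hom `c ↦ ⁅c, t⁆`. -/
def cmHom (S : Subgroup K) (t : K) (h : ∀ c ∈ S, ⁅c, t⁆ ∈ center K) : S →* K :=
  MonoidHom.mk' (fun c => ⁅(c : K), t⁆) (fun a b => comm_mul_left (h b b.2))

@[simp] theorem cmHom_apply (S : Subgroup K) (t : K) (h : ∀ c ∈ S, ⁅c, t⁆ ∈ center K) (c : S) :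
    cmHom S t h c = ⁅(c : K), t⁆ := rfl

theorem mem_range_cmHom {S : Subgroup K} {t : K} {h : ∀ c ∈ S, ⁅c, t⁆ ∈ center K} {z : K} :
    z ∈ (cmHom S t h).range ↔ ∃ c ∈ S, ⁅c, t⁆ = z := by
  rw [MonoidHom.mem_range]
  constructor
  · rintro ⟨c, rfl⟩
    exact ⟨c, c.2, rfl⟩
  · rintro ⟨c, hc, rfl⟩
    exact ⟨⟨c, hc⟩, rfl⟩

theorem relIndex_cm [Finite K] (S : Subgroup K) (t : K) (h : ∀ c ∈ S, ⁅c, t⁆ ∈ center K) :
    (centralizer ({t} : Set K)).relIndex S = Nat.card (cmHom S t h).range := by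
  have e : (cmHom S t h).ker = (centralizer ({t} : Set K)).subgroupOf S := by
    ext c
    rw [MonoidHom.mem_ker, Subgroup.mem_subgroupOf, mem_cen, cmHom_apply,
      commutatorElement_eq_one_iff_mul_comm]
  rw [← Subgroup.index_ker, e]
  rfl

/-- Elements of `T` whose commutators with `W` lie in `H`. -/
def Fx (T W H : Subgroup K) (hH : H ≤ center K) : Subgroup K where
  carrier := {s | s ∈ T ∧ ∀ c ∈ W, ⁅c, s⁆ ∈ H}
  one_mem' := by
    refine ⟨T.one_mem, fun c _ => ?_⟩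
    rw [commutatorElement_one_right]
    exact H.one_mem
  mul_mem' := by
    rintro a b ⟨ha, ha'⟩ ⟨hb, hb'⟩
    refine ⟨T.mul_mem ha hb, fun c hc => ?_⟩
    rw [comm_mul_right (hH (hb' c hc))]
    exact H.mul_mem (ha' c hc) (hb' c hc)
  inv_mem' := by
    rintro a ⟨ha, ha'⟩
    refine ⟨T.inv_mem ha, fun c hc => ?_⟩
    rw [comm_inv_right (hH (ha' c hc))]
    exact H.inv_mem (ha' c hc)

theorem mem_Fx {T W H : Subgroup K} {hH : H ≤ center K} {s : K} :
    s ∈ Fx T W H hH ↔ s ∈ T ∧ ∀ c ∈ W, ⁅c, s⁆ ∈ H := Iff.rfl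

theorem Fx_normal (T W H : Subgroup K) (hH : H ≤ center K) [hT : T.Normal] [hW : W.Normal] :
    (Fx T W H hH).Normal := by
  constructor
  rintro s ⟨hs, hs'⟩ g
  refine ⟨hT.conj_mem s hs g, fun c hc => ?_⟩
  have h1 : g⁻¹ * c * g ∈ W := by simpa using hW.conj_mem c hc g⁻¹
  rw [comm_conj, conj_central (hH (hs' _ h1))]
  exact hs' _ h1

end Comm

section Quot

variable {K : Type*} [Group K]

/-- The image of `T` in `K ⧸ Y`. -/
abbrev TQ (Y T : Subgroup K) [Y.Normal] : Subgroup (K ⧸ Y) := T.map (QuotientGroup.mk' Y)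

instance TQ_normal (Y T : Subgroup K) [Y.Normal] [hT : T.Normal] : (TQ Y T).Normal :=
  hT.map _ (QuotientGroup.mk'_surjective Y)

/-- The conjugation action on `T` modulo `Y`. -/
noncomputable def rho (Y T : Subgroup K) [Y.Normal] [T.Normal] : K →* MulAut (TQ Y T) :=
  (MulAut.conjNormal).comp (QuotientGroup.mk' Y)

theorem mkT_mem (Y T : Subgroup K) [Y.Normal] {t : K} (ht : t ∈ T) :
    ((t : K) : K ⧸ Y) ∈ TQ Y T := ⟨t, ht, rfl⟩

theorem rho_apply (Y T : Subgroup K) [Y.Normal] [T.Normal] (g : K) (v : TQ Y T) :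
    ((rho Y T g v : TQ Y T) : K ⧸ Y) = (g : K ⧸ Y) * (v : K ⧸ Y) * (g : K ⧸ Y)⁻¹ :=
  MulAut.conjNormal_apply _ _

theorem rho_mk (Y T : Subgroup K) [Y.Normal] [T.Normal] (g : K) {t : K} (ht : t ∈ T) :
    ((rho Y T g ⟨(t : K ⧸ Y), mkT_mem Y T ht⟩ : TQ Y T) : K ⧸ Y) = ((g * t * g⁻¹ : K) : K ⧸ Y) := by
  rw [rho_apply]
  rfl

/-- `mk t` is the same as `mk (⁅c, t⁆ * t)` when the commutator lies in `Y`. -/
theorem rho_eq_of_comm (Y T : Subgroup K) [Y.Normal] [T.Normal] {c : K}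
    (h : ∀ t ∈ T, ⁅c, t⁆ ∈ Y) : rho Y T c = 1 := by
  ext v
  obtain ⟨_, t, ht, rfl⟩ := v
  have h1 := rho_mk Y T c ht
  change ((rho Y T c ⟨_, _⟩ : TQ Y T) : K ⧸ Y) = _
  refine h1.trans ?_
  have h2 : ((⁅c, t⁆ : K) : K ⧸ Y) = 1 := (QuotientGroup.eq_one_iff _).2 (h t ht)
  have e : c * t * c⁻¹ = ⁅c, t⁆ * t := by simp [commutatorElement_def]
  rw [e, QuotientGroup.mk_mul, h2, one_mul]
  rfl

theorem comm_mem_of_rho (Y T : Subgroup K) [Y.Normal] [T.Normal] {g t : K} (ht : t ∈ T)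
    (h : rho Y T g ⟨(t : K ⧸ Y), mkT_mem Y T ht⟩ = ⟨(t : K ⧸ Y), mkT_mem Y T ht⟩) : ⁅g, t⁆ ∈ Y := by
  have h1 := rho_mk Y T g ht
  rw [h] at h1
  have h2 : ((t : K) : K ⧸ Y) = ((g * t * g⁻¹ : K) : K ⧸ Y) := h1
  rw [← QuotientGroup.eq_one_iff, commutatorElement_def, QuotientGroup.mk_mul, ← h2]
  simp

variable [Finite K]

/-- The fixed point lemma. -/
theorem exists_fixed {p : ℕ} [Fact p.Prime] (Y T : Subgroup K) [Y.Normal] [T.Normal]
    (hpT : IsPGroup p T) (hTY : ¬ T ≤ Y) (W : Subgroup K)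
    (hW : IsPGroup p (W.map (rho Y T))) : ∃ t ∈ T, t ∉ Y ∧ ∀ w ∈ W, ⁅w, t⁆ ∈ Y := by
  classical
  have hpV : IsPGroup p (TQ Y T) := hpT.map _
  obtain ⟨t₀, ht₀, ht₀Y⟩ := SetLike.not_le_iff_exists.1 hTY
  have hnt : Nontrivial (TQ Y T) := by
    refine ⟨⟨⟨(t₀ : K ⧸ Y), mkT_mem Y T ht₀⟩, 1, fun h => ht₀Y ?_⟩⟩
    exact (QuotientGroup.eq_one_iff t₀).1 (congrArg Subtype.val h)
  have hdvd : p ∣ Nat.card (TQ Y T) := by
    obtain ⟨n, hn⟩ := IsPGroup.iff_card.1 hpV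
    rw [hn]
    have hn0 : n ≠ 0 := by
      rintro rfl
      have := Finite.one_lt_card (α := TQ Y T)
      rw [hn] at this
      simp at this
    exact dvd_pow_self p hn0
  have hfix : (1 : TQ Y T) ∈ MulAction.fixedPoints (W.map (rho Y T)) (TQ Y T) := by
    intro γ
    exact map_one (γ : MulAut (TQ Y T))
  obtain ⟨b, hb, hb1⟩ := hW.exists_fixed_point_of_prime_dvd_card_of_fixed_point (TQ Y T) hdvd hfix
  obtain ⟨_, t, ht, rfl⟩ := b
  refine ⟨t, ht, ?_, ?_⟩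
  · intro htY
    apply hb1
    apply Subtype.ext
    exact ((QuotientGroup.eq_one_iff t).2 htY).symm
  · intro w hw
    apply comm_mem_of_rho Y T ht
    have := hb ⟨rho Y T w, ⟨w, hw, rfl⟩⟩
    exact this

/-- The norm lemma. -/
theorem norm_lemma {V : Type*} [Group V] [Finite V] (hcomm : ∀ a b : V, a * b = b * a)
    (Γ : Subgroup (MulAut V)) (g : MulAut V)
    (hg : ∀ γ ∈ Γ, g * γ * g⁻¹ ∈ Γ) (hfix : ∀ v : V, (∀ γ ∈ Γ, γ v = v) → g v = v) {v w : V}
    (hv : g v = v * w) (hw : ∀ γ ∈ Γ, γ w = w) : w ^ Nat.card Γ = 1 := by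
  classical
  letI : CommGroup V := { (inferInstance : Group V) with mul_comm := hcomm }
  letI : Fintype Γ := Fintype.ofFinite _
  let ν : V → V := fun x => ∏ γ : Γ, (γ : MulAut V) x
  have hmap : ∀ (δ : MulAut V) (F : Γ → V), δ (∏ γ : Γ, F γ) = ∏ γ : Γ, δ (F γ) := by
    intro δ F
    exact map_prod (δ : V →* V) F Finset.univ
  have h1 : ∀ δ ∈ Γ, ∀ x, δ (ν x) = ν x := by
    intro δ hδ x
    simp only [ν]
    rw [hmap]
    exact Equiv.prod_comp (Equiv.mulLeft (⟨δ, hδ⟩ : Γ)) (fun γ : Γ => (γ : MulAut V) x)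
  have h2 : ∀ x, g (ν x) = ν (g x) := by
    intro x
    simp only [ν]
    rw [hmap]
    let e : Γ → Γ := fun γ => ⟨g * γ * g⁻¹, hg γ γ.2⟩
    have he : Function.Injective e := by
      intro a b hab
      have := congrArg Subtype.val hab
      apply Subtype.ext
      exact mul_left_cancel (mul_right_cancel this)
    have hb : Function.Bijective e := Finite.injective_iff_bijective.1 he
    rw [← hb.prod_comp (fun γ : Γ => (γ : MulAut V) (g x))]
    refine Finset.prod_congr rfl (fun γ _ => ?_)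
    simp [e, MulAut.mul_apply]
  have h3 : ν (v * w) = ν v * w ^ Nat.card Γ := by
    simp only [ν]
    have e1 : ∀ γ : Γ, (γ : MulAut V) (v * w) = (γ : MulAut V) v * w := by
      intro γ
      rw [map_mul, hw γ.1 γ.2]
    rw [Finset.prod_congr rfl (fun γ _ => e1 γ), Finset.prod_mul_distrib]
    congr 1
    rw [Finset.prod_const, Finset.card_univ, Nat.card_eq_fintype_card]
  have h4 : g (ν v) = ν v := hfix _ (fun γ hγ => h1 γ hγ v)
  rw [h2, hv, h3] at h4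
  exact mul_left_cancel (a := ν v) (by rw [h4, mul_one])

theorem pgroup_map_rho (Y T : Subgroup K) [Y.Normal] [T.Normal] {q : ℕ} (N C : Subgroup K)
    (hC : ∀ c ∈ C, ∀ t ∈ T, ⁅c, t⁆ ∈ Y) (hq : ∀ n ∈ N, n ^ q ∈ C) :
    IsPGroup q (N.map (rho Y T)) := by
  rintro ⟨_, n, hn, rfl⟩
  refine ⟨1, ?_⟩
  apply Subtype.ext
  rw [pow_one]
  change (rho Y T n) ^ q = 1
  rw [← map_pow]
  exact rho_eq_of_comm Y T (hC _ (hq n hn))

end Quot

section Exists

variable {K : Type*} [Group K] [Finite K] [Group.IsSolvable K]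

open Cfsg.Agent.Lib.Solvable.Basic in
/-- A nonabelian solvable group has a noncentral normal `p`-subgroup. -/
theorem exists_normal_pgroup (hZ : center K ≠ ⊤) :
    ∃ (T : Subgroup K) (p : ℕ), p.Prime ∧ T.Normal ∧ IsPGroup p T ∧ ¬ T ≤ center K := by
  classical
  haveI : Nontrivial (K ⧸ center K) := by
    apply QuotientGroup.nontrivial_iff.2
    exact hZ
  obtain ⟨M, hM⟩ := exists_isMinNormal (G := K ⧸ center K)
  obtain ⟨q, hq, hqM⟩ := isMinNormal_exponent hM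
  haveI : Fact q.Prime := ⟨hq⟩
  have hcomm := isMinNormal_comm hM
  haveI hMn : M.Normal := hM.1
  let V : Subgroup K := M.comap (QuotientGroup.mk' (center K))
  haveI hVn : V.Normal := Subgroup.Normal.comap hMn _
  -- `V` is nilpotent
  let φ : V →* M := ((QuotientGroup.mk' (center K)).comp V.subtype).codRestrict M (fun v => v.2)
  have hφ : φ.ker ≤ center V := by
    intro v hv
    rw [mem_center_iff]
    intro w
    have h1 : (v : K) ∈ center K := by
      have h2 : ((φ v : M) : K ⧸ center K) = 1 := by rw [MonoidHom.mem_ker.1 hv]; rfl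
      exact (QuotientGroup.eq_one_iff _).1 h2
    apply Subtype.ext
    exact mem_center_iff.1 h1 w
  haveI hMnil : Group.IsNilpotent M := by
    letI : CommGroup M := { (inferInstance : Group M) with
      mul_comm := fun a b => Subtype.ext (hcomm a a.2 b b.2) }
    infer_instance
  haveI hVnil : Group.IsNilpotent V := Subgroup.isNilpotent_of_ker_le_center φ hφ
  obtain ⟨Q⟩ : Nonempty (Sylow q V) := inferInstance
  haveI hQn : (Q : Subgroup V).Normal :=
    Sylow.normal_of_normalizerCondition Group.normalizerCondition_of_isNilpotent Q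
  haveI hQc : (Q : Subgroup V).Characteristic := Sylow.characteristic_of_normal Q hQn
  refine ⟨(Q : Subgroup V).map V.subtype, q, hq, inferInstance, ?_, ?_⟩
  · exact Q.isPGroup'.map V.subtype
  · intro hle
    -- `q` divides the index of the centre in `V`
    have hMne : M ≠ ⊥ := hM.2.1
    have hq1 : q ∣ Nat.card M := by
      haveI : Nontrivial M := (Subgroup.nontrivial_iff_ne_bot M).2 hMne
      have h2 : Nat.card M ≠ 1 := Finite.one_lt_card.ne'
      obtain ⟨d, hd, hdM⟩ := Nat.exists_prime_and_dvd h2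
      haveI : Fact d.Prime := ⟨hd⟩
      obtain ⟨y, hy⟩ := exists_prime_orderOf_dvd_card' (G := M) d hdM
      have h3 : (y : K ⧸ center K) ^ q = 1 := hqM _ y.2
      have h4 : y ^ q = 1 := Subtype.ext h3
      have h5 := orderOf_dvd_of_pow_eq_one h4
      rw [hy] at h5
      have h6 := (Nat.prime_dvd_prime_iff_eq hd hq).1 h5
      rwa [← h6]
    have hidx : ((center K).subgroupOf V).index = Nat.card M := by
      have e0 : φ.ker = (center K).subgroupOf V := by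
        ext v
        rw [Subgroup.mem_subgroupOf, MonoidHom.mem_ker]
        constructor
        · intro h
          have h2 : ((φ v : M) : K ⧸ center K) = 1 := by rw [h]; rfl
          exact (QuotientGroup.eq_one_iff _).1 h2
        · intro h
          apply Subtype.ext
          exact (QuotientGroup.eq_one_iff _).2 h
      have hsurj : Function.Surjective φ := by
        rintro ⟨m, hm⟩
        obtain ⟨k, rfl⟩ := QuotientGroup.mk_surjective m
        exact ⟨⟨k, hm⟩, rfl⟩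
      rw [← e0, Subgroup.index_ker, MonoidHom.range_eq_top.2 hsurj, Subgroup.card_top]
    have hQV : (Q : Subgroup V) ≤ (center K).subgroupOf V := by
      intro v hv
      rw [Subgroup.mem_subgroupOf]
      exact hle ⟨v, hv, rfl⟩
    apply Q.not_dvd_index
    refine Dvd.dvd.trans ?_ (Subgroup.index_dvd_of_le hQV)
    rw [hidx]
    exact hq1

end Exists

section Main

variable {K : Type*} [Group K] [Finite K]

theorem prime_dvd_card_of_exponent {X : Type*} [Group X] [Finite X] {q : ℕ} (hq : q.Prime)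
    (M : Subgroup X) (hM : M ≠ ⊥) (hqM : ∀ x ∈ M, x ^ q = 1) : q ∣ Nat.card M := by
  haveI : Nontrivial M := (Subgroup.nontrivial_iff_ne_bot M).2 hM
  have h2 : Nat.card M ≠ 1 := Finite.one_lt_card.ne'
  obtain ⟨d, hd, hdM⟩ := Nat.exists_prime_and_dvd h2
  haveI : Fact d.Prime := ⟨hd⟩
  obtain ⟨y, hy⟩ := exists_prime_orderOf_dvd_card' (G := M) d hdM
  have h3 : (y : X) ^ q = 1 := hqM _ y.2
  have h4 : y ^ q = 1 := Subtype.ext h3
  have h5 := orderOf_dvd_of_pow_eq_one h4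
  rw [hy] at h5
  have h6 := (Nat.prime_dvd_prime_iff_eq hd hq).1 h5
  rwa [← h6]

theorem comm_pow_conj {v t : K} (hc : v * ⁅v, t⁆ = ⁅v, t⁆ * v) (k : ℕ) :
    v ^ k * t * (v ^ k)⁻¹ = ⁅v, t⁆ ^ k * t := by
  induction k with
  | zero => simp
  | succ k ih =>
    have hc' : Commute v (⁅v, t⁆ ^ k) := Commute.pow_right hc k
    have e : v * t * v⁻¹ = ⁅v, t⁆ * t := by simp [commutatorElement_def]
    calc v ^ (k + 1) * t * (v ^ (k + 1))⁻¹ = v * (v ^ k * t * (v ^ k)⁻¹) * v⁻¹ := by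
          rw [pow_succ']
          group
      _ = (v * ⁅v, t⁆ ^ k) * t * v⁻¹ := by rw [ih]; group
      _ = ⁅v, t⁆ ^ k * (v * t * v⁻¹) := by rw [hc'.eq]; group
      _ = ⁅v, t⁆ ^ (k + 1) * t := by rw [e, pow_succ]; group

/-- The minimality data. -/
structure MinT (T : Subgroup K) (p : ℕ) : Prop where
  pg : IsPGroup p T
  nc : ¬ T ≤ center K
  min : ∀ N : Subgroup K, N.Normal → N ≤ T → N ≤ center K ∨ N = T

variable {T : Subgroup K} [hT : T.Normal] {p : ℕ} [hp : Fact p.Prime] (h : MinT T p)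

include h

theorem comm_T_central [Group.IsSolvable K] {s t : K} (hs : s ∈ T) (ht : t ∈ T) :
    ⁅s, t⁆ ∈ center K := by
  have hne : T ≠ ⊥ := by
    rintro rfl
    exact h.nc bot_le
  have h1 : ⁅T, T⁆ < T := Group.IsSolvable.commutator_lt_of_ne_bot hne
  have h2 : ⁅T, T⁆.Normal := Subgroup.commutator_normal T T
  rcases h.min _ h2 h1.le with h3 | h3
  · exact h3 (Subgroup.commutator_mem_commutator hs ht)
  · exact absurd h3 h1.ne

theorem T_le_C2 [Group.IsSolvable K] : T ≤ C2 T := fun _ hs _ ht => comm_T_central h hs ht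

/-- The uniform subgroup `L`. -/
theorem exists_L : ∃ L : Subgroup K, L ≤ center K ∧ L ≤ T ∧ (∀ c ∈ C2 T, ∀ t ∈ T, ⁅c, t⁆ ∈ L) ∧
    (∀ t ∈ T, t ∉ center K → (centralizer ({t} : Set K)).relIndex (C2 T) = Nat.card L) ∧
    (∀ t ∈ T, t ∉ center K → ∀ z ∈ L, ∃ c ∈ C2 T, ⁅c, t⁆ = z) := by
  obtain ⟨t₁, ht₁, ht₁Z⟩ := SetLike.not_le_iff_exists.1 h.nc
  have hcen : ∀ t ∈ T, ∀ c ∈ C2 T, ⁅c, t⁆ ∈ center K := fun t ht c hc => hc t ht
  let R : ∀ t : T, Subgroup K := fun t => (cmHom (C2 T) t (hcen t t.2)).range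
  have hR : ∀ (t : T) (z : K), z ∈ R t ↔ ∃ c ∈ C2 T, ⁅c, (t : K)⁆ = z := fun t z => mem_range_cmHom
  have hRZ : ∀ t : T, R t ≤ center K := by
    intro t z hz
    obtain ⟨c, hc, rfl⟩ := (hR t z).1 hz
    exact hc t t.2
  have hunif : ∀ (t₀ s : T), (t₀ : K) ∉ center K → R s ≤ R t₀ := by
    intro t₀ s ht
    haveI := Fx_normal T (C2 T) (R t₀) (hRZ t₀)
    have hmem : (t₀ : K) ∈ Fx T (C2 T) (R t₀) (hRZ t₀) :=
      ⟨t₀.2, fun c hc => (hR t₀ _).2 ⟨c, hc, rfl⟩⟩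
    have hFx : Fx T (C2 T) (R t₀) (hRZ t₀) = T := by
      rcases h.min (Fx T (C2 T) (R t₀) (hRZ t₀)) inferInstance (fun x hx => hx.1) with h1 | h1
      · exact absurd (h1 hmem) ht
      · exact h1
    have hs : (s : K) ∈ Fx T (C2 T) (R t₀) (hRZ t₀) := hFx.ge s.2
    intro z hz
    obtain ⟨c, hc, rfl⟩ := (hR s z).1 hz
    exact hs.2 c hc
  refine ⟨R ⟨t₁, ht₁⟩, hRZ _, ?_, ?_, ?_, ?_⟩
  · intro z hz
    obtain ⟨c, hc, rfl⟩ := (hR _ z).1 hz
    have e : ⁅c, t₁⁆ = (c * t₁ * c⁻¹) * t₁⁻¹ := by simp [commutatorElement_def]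
    rw [e]
    exact T.mul_mem (hT.conj_mem t₁ ht₁ c) (T.inv_mem ht₁)
  · intro c hc t ht
    exact hunif ⟨t₁, ht₁⟩ ⟨t, ht⟩ ht₁Z ((hR ⟨t, ht⟩ _).2 ⟨c, hc, rfl⟩)
  · intro t ht htZ
    rw [relIndex_cm (C2 T) t (hcen t ht)]
    have e : R ⟨t, ht⟩ = R ⟨t₁, ht₁⟩ :=
      le_antisymm (hunif ⟨t₁, ht₁⟩ ⟨t, ht⟩ ht₁Z) (hunif ⟨t, ht⟩ ⟨t₁, ht₁⟩ htZ)
    rw [← e]
  · intro t ht htZ z hz
    have e : R ⟨t₁, ht₁⟩ ≤ R ⟨t, ht⟩ := hunif ⟨t, ht⟩ ⟨t₁, ht₁⟩ htZ
    exact (hR ⟨t, ht⟩ z).1 (e hz)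

open Cfsg.Agent.Lib.Solvable.Basic in
/-- The main contradiction: `C2 T` is everything. -/
theorem C2_eq_top [Group.IsSolvable K] {f : ℕ}
    (hf : ∀ y : K, y ∉ center K → ∀ r k : ℕ, r.Prime → y ^ r ^ k = 1 → cs y = f) :
    C2 T = ⊤ := by
  classical
  by_contra hC
  obtain ⟨L, hLZ, hLT, hL2, hL3, hL4⟩ := exists_L h
  haveI hLn : L.Normal := by
    constructor
    intro z hz g
    rw [conj_central (hLZ hz)]
    exact hz
  haveI : Nontrivial (K ⧸ C2 T) := QuotientGroup.nontrivial_iff.2 hC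
  obtain ⟨M, hM⟩ := exists_isMinNormal (G := K ⧸ C2 T)
  obtain ⟨q, hq, hqM⟩ := isMinNormal_exponent hM
  haveI : Fact q.Prime := ⟨hq⟩
  haveI hMn : M.Normal := hM.1
  let N₃ : Subgroup K := M.comap (QuotientGroup.mk' (C2 T))
  haveI hN₃n : N₃.Normal := Subgroup.Normal.comap hMn _
  have hN3pow : ∀ n ∈ N₃, n ^ q ∈ C2 T := by
    intro n hn
    have h1 : ((n : K) : K ⧸ C2 T) ^ q = 1 := hqM _ hn
    rw [← QuotientGroup.mk_pow] at h1
    exact (QuotientGroup.eq_one_iff _).1 h1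
  have hq1 : q ∣ Nat.card M := prime_dvd_card_of_exponent hq M hM.2.1 hqM
  have hrel : (C2 T).relIndex N₃ = Nat.card M := by
    have e := Subgroup.relIndex_ker (K := N₃) (QuotientGroup.mk' (C2 T))
    rw [QuotientGroup.ker_mk', Subgroup.map_comap_eq_self_of_surjective
      (QuotientGroup.mk'_surjective _)] at e
    exact e
  obtain ⟨v, hvN, ⟨m, hvm⟩, hvC⟩ := exists_pelem_mem_not_mem N₃ (C2 T) (hrel ▸ hq1)
  have hcle : center K ≤ C2 T := by
    intro z hz t _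
    have : z * t = t * z := mem_center_iff.1 hz t |>.symm
    rw [commutatorElement_eq_one_iff_mul_comm.2 this]
    exact one_mem _
  -- the fixed points of `N₃`
  haveI hFn := Fx_normal T N₃ (center K) le_rfl
  have hF' : Fx T N₃ (center K) le_rfl ≤ center K := by
    rcases h.min (Fx T N₃ (center K) le_rfl) hFn (fun x hx => hx.1) with h1 | h1
    · exact h1
    · exfalso
      apply hvC
      intro t ht
      have : t ∈ Fx T N₃ (center K) le_rfl := h1.ge ht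
      exact this.2 v hvN
  -- `q ≠ p`
  have hqp : q ≠ p := by
    rintro rfl
    have hW : IsPGroup q (N₃.map (rho (center K) T)) :=
      pgroup_map_rho (center K) T N₃ (C2 T) (fun c hc t ht => hc t ht) hN3pow
    obtain ⟨t, ht, htZ, hw⟩ := exists_fixed (center K) T h.pg h.nc N₃ hW
    exact htZ (hF' ⟨ht, hw⟩)
  have hpr : p.Prime := hp.out
  -- (b)
  have hb : ∀ g t : K, t ∈ T → ⁅g, t⁆ ∈ center K → ⁅g, t⁆ ∈ L := by
    intro g t ht ha
    have haT : ⁅g, t⁆ ∈ T := by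
      have e : ⁅g, t⁆ = (g * t * g⁻¹) * t⁻¹ := by simp [commutatorElement_def]
      rw [e]
      exact T.mul_mem (hT.conj_mem t ht g) (T.inv_mem ht)
    have hT2 : T ≤ C2 T := T_le_C2 h
    have hcomm : ∀ a b : TQ L T, a * b = b * a := by
      rintro ⟨_, a, ha', rfl⟩ ⟨_, b, hb', rfl⟩
      apply Subtype.ext
      have h1 : ⁅a, b⁆ ∈ L := hL2 a (hT2 ha') b hb'
      have h2 : ((⁅a, b⁆ : K) : K ⧸ L) = 1 := (QuotientGroup.eq_one_iff _).2 h1
      rw [commutatorElement_def] at h2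
      change ((a : K) : K ⧸ L) * ((b : K) : K ⧸ L) = ((b : K) : K ⧸ L) * ((a : K) : K ⧸ L)
      have h3 : (a : K ⧸ L) * (b : K ⧸ L) * (a : K ⧸ L)⁻¹ * (b : K ⧸ L)⁻¹ = 1 := h2
      have h4 := mul_inv_eq_one.1 h3
      exact mul_inv_eq_iff_eq_mul.1 h4
    have hfixg : ∀ (s : K) (hs : s ∈ T), s ∈ center K → ∀ k : K,
        rho L T k ⟨(s : K ⧸ L), mkT_mem L T hs⟩ = ⟨(s : K ⧸ L), mkT_mem L T hs⟩ := by
      intro s hs hsZ k
      apply Subtype.ext
      rw [rho_mk L T k hs, conj_central hsZ]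
    have hΓ : IsPGroup q (N₃.map (rho L T)) :=
      pgroup_map_rho L T N₃ (C2 T) (fun c hc t ht => hL2 c hc t ht) hN3pow
    have key := norm_lemma hcomm (N₃.map (rho L T)) (rho L T g) ?_ ?_
      (v := ⟨(t : K ⧸ L), mkT_mem L T ht⟩) (w := ⟨((⁅g, t⁆ : K) : K ⧸ L), mkT_mem L T haT⟩) ?_ ?_
    · -- from the norm to the conclusion
      obtain ⟨j, hj⟩ := IsPGroup.iff_card.1 hΓ
      rw [hj] at key
      obtain ⟨k, hk⟩ := h.pg ⟨_, haT⟩
      have hk' : (⟨((⁅g, t⁆ : K) : K ⧸ L), mkT_mem L T haT⟩ : TQ L T) ^ p ^ k = 1 := by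
        apply Subtype.ext
        have h1 : ⁅g, t⁆ ^ p ^ k = 1 := by simpa using congrArg Subtype.val hk
        change ((⁅g, t⁆ : K) : K ⧸ L) ^ p ^ k = 1
        rw [← QuotientGroup.mk_pow, h1]
        rfl
      have h2 := eq_one_of_pelem hq hpr hqp key hk'
      exact (QuotientGroup.eq_one_iff _).1 (congrArg Subtype.val h2)
    · rintro _ ⟨n, hn, rfl⟩
      refine ⟨g * n * g⁻¹, hN₃n.conj_mem n hn g, ?_⟩
      simp
    · rintro ⟨_, s, hs, rfl⟩ hs2
      apply hfixg s hs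
      apply hF'
      refine ⟨hs, fun n hn => ?_⟩
      exact hLZ (comm_mem_of_rho L T hs (hs2 _ ⟨n, hn, rfl⟩))
    · apply Subtype.ext
      rw [rho_mk L T g ht]
      change _ = ((t : K) : K ⧸ L) * ((⁅g, t⁆ : K) : K ⧸ L)
      rw [← QuotientGroup.mk_mul]
      have e : g * t * g⁻¹ = t * ⁅g, t⁆ := by
        have e1 := mem_center_iff.1 ha t
        rw [e1]
        simp [commutatorElement_def]
      rw [e]
    · rintro _ ⟨n, hn, rfl⟩
      exact hfixg _ haT ha n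
  -- (c)
  obtain ⟨R⟩ : Nonempty (Sylow p K) := inferInstance
  obtain ⟨t₀, ht₀, ht₀Z, hR⟩ := exists_fixed (center K) T h.pg h.nc (R : Subgroup K)
    (R.isPGroup'.map _)
  let St : Subgroup K := (centralizer ({(t₀ : K ⧸ L)} : Set (K ⧸ L))).comap (QuotientGroup.mk' L)
  have memSt : ∀ g : K, g ∈ St ↔ ⁅g, t₀⁆ ∈ L := by
    intro g
    change ((g : K) : K ⧸ L) ∈ centralizer ({(t₀ : K ⧸ L)} : Set (K ⧸ L)) ↔ _
    rw [mem_cen, ← QuotientGroup.eq_one_iff, commutatorElement_def, QuotientGroup.mk_mul,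
      QuotientGroup.mk_mul, QuotientGroup.mk_mul, QuotientGroup.mk_inv, QuotientGroup.mk_inv]
    constructor
    · intro e
      rw [e]
      group
    · intro e
      exact mul_inv_eq_iff_eq_mul.1 (mul_inv_eq_one.1 e)
  have hStZ : ∀ c ∈ St, ⁅c, t₀⁆ ∈ center K := fun c hc => hLZ ((memSt c).1 hc)
  have hrange : (cmHom St t₀ hStZ).range = L := by
    ext z
    rw [mem_range_cmHom]
    constructor
    · rintro ⟨c, hc, rfl⟩
      exact (memSt c).1 hc
    · intro hz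
      obtain ⟨c, hc, rfl⟩ := hL4 t₀ ht₀ ht₀Z z hz
      exact ⟨c, (memSt c).2 hz, rfl⟩
  have h1 : (centralizer ({t₀} : Set K)).relIndex St = Nat.card L := by
    rw [relIndex_cm St t₀ hStZ, hrange]
  have hCSt : centralizer ({t₀} : Set K) ≤ St := by
    intro g hg
    rw [memSt, commutatorElement_eq_one_iff_mul_comm.2 (mem_cen.1 hg)]
    exact L.one_mem
  have h2 := Subgroup.relIndex_mul_index hCSt
  have hRSt : (R : Subgroup K) ≤ St := fun r hr => (memSt r).2 (hb r t₀ ht₀ (hR r hr))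
  have hpSt : ¬ p ∣ St.index := fun h3 => R.not_dvd_index (h3.trans (Subgroup.index_dvd_of_le hRSt))
  obtain ⟨k₀, hk₀⟩ := h.pg ⟨t₀, ht₀⟩
  have ht₀f : cs t₀ = f := hf t₀ ht₀Z p k₀ hpr (by simpa using congrArg Subtype.val hk₀)
  have hfL : f = Nat.card L * St.index := by
    rw [← ht₀f, ← h1]
    exact h2.symm
  -- (e)
  obtain ⟨t, ht, hvt⟩ : ∃ t ∈ T, ⁅v, t⁆ ∉ center K := by
    by_contra hcon
    push Not at hcon
    exact hvC hcon
  have huT : ⁅v, t⁆ ∈ T := by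
    have e : ⁅v, t⁆ = (v * t * v⁻¹) * t⁻¹ := by simp [commutatorElement_def]
    rw [e]
    exact T.mul_mem (hT.conj_mem t ht v) (T.inv_mem ht)
  have hurel := hL3 _ huT hvt
  let X : Subgroup K := centralizer ({⁅v, t⁆} : Set K) ⊓ C2 T
  let Y : Subgroup K := centralizer ({v} : Set K) ⊓ C2 T
  have hYX : Y ≤ X := by
    intro c hc
    obtain ⟨hc1, hc2⟩ := Subgroup.mem_inf.1 hc
    refine Subgroup.mem_inf.2 ⟨?_, hc2⟩
    rw [mem_cen] at hc1
    rw [mem_cen, ← commutatorElement_eq_one_iff_mul_comm]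
    have e : ⁅v, t⁆ = (v * t * v⁻¹) * t⁻¹ := by simp [commutatorElement_def]
    have hct : ⁅c, t⁆ ∈ center K := hc2 t ht
    have hct' : ⁅c, t⁻¹⁆ ∈ center K := hc2 t⁻¹ (T.inv_mem ht)
    rw [e, comm_mul_right hct', comm_inv_right hct, comm_conj]
    have e2 : v⁻¹ * c * v = c := by
      calc v⁻¹ * c * v = v⁻¹ * (c * v) := by group
        _ = v⁻¹ * (v * c) := by rw [hc1]
        _ = c := by group
    rw [e2, conj_central hct]
    group
  have huv : ⁅v, t⁆ ∉ centralizer ({v} : Set K) := by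
    intro hu
    rw [mem_cen] at hu
    have h3 := comm_pow_conj hu.symm (q ^ m)
    rw [hvm, one_mul, inv_one, mul_one] at h3
    have h4 : ⁅v, t⁆ ^ q ^ m = 1 := mul_eq_right.1 h3.symm
    obtain ⟨k, hk⟩ := h.pg ⟨_, huT⟩
    have h5 : ⁅v, t⁆ ^ p ^ k = 1 := by simpa using congrArg Subtype.val hk
    have h6 := eq_one_of_pelem hq hpr hqp h4 h5
    exact hvt (h6 ▸ one_mem _)
  have huX : ⁅v, t⁆ ∈ X := Subgroup.mem_inf.2 ⟨mem_cen.2 rfl, T_le_C2 h huT⟩
  have hpYX : p ∣ Y.relIndex X := by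
    by_contra hn
    have hpg : IsPGroup p (T.subgroupOf X) := by
      rintro ⟨⟨x, hx⟩, hx2⟩
      obtain ⟨k, hk⟩ := h.pg ⟨x, hx2⟩
      refine ⟨k, ?_⟩
      apply Subtype.ext
      apply Subtype.ext
      simpa using congrArg Subtype.val hk
    have hle := normal_pgroup_le (T.subgroupOf X) (Y.subgroupOf X) hpg hn
    have h3 : (⟨⁅v, t⁆, huX⟩ : X) ∈ T.subgroupOf X := Subgroup.mem_subgroupOf.2 huT
    have h4 := Subgroup.mem_subgroupOf.1 (hle h3)
    exact huv (Subgroup.mem_inf.1 h4).1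
  have h3 := Subgroup.relIndex_mul_relIndex Y X (C2 T) hYX inf_le_right
  have eX : X.relIndex (C2 T) = Nat.card L := by
    change (centralizer ({⁅v, t⁆} : Set K) ⊓ C2 T).relIndex (C2 T) = _
    rw [Subgroup.inf_relIndex_right, hurel]
  have eY : Y.relIndex (C2 T) = (centralizer ({v} : Set K)).relIndex (C2 T) :=
    Subgroup.inf_relIndex_right _ _
  have h4 : (centralizer ({v} : Set K)).relIndex (C2 T) ∣ (centralizer ({v} : Set K)).index :=
    Cfsg.Agent.Lib.ClassPow.relIndex_dvd_index_of_normal_right _ _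
  have hvZ : v ∉ center K := fun hz => hvC (hcle hz)
  have h5 : cs v = f := hf v hvZ q m hq hvm
  have h6 : (centralizer ({v} : Set K)).index = f := h5
  rw [h6, ← eY, ← h3, eX, hfL, mul_comm] at h4
  have hLpos : 0 < Nat.card L := Nat.card_pos
  have h7 := Nat.dvd_of_mul_dvd_mul_left hLpos h4
  exact hpSt (hpYX.trans h7)

end Main

section Final

variable {K : Type*} [Group K] [Finite K] [Group.IsSolvable K]

/-- **Theorem F.** -/
theorem thmF (hZ : center K ≠ ⊤) {f : ℕ}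
    (hf : ∀ y : K, y ∉ center K → ∀ r k : ℕ, r.Prime → y ^ r ^ k = 1 → cs y = f) :
    ∃ s n : ℕ, s.Prime ∧ f = s ^ n := by
  classical
  obtain ⟨T₀, p₀, hp₀, hT₀n, hT₀p, hT₀c⟩ := exists_normal_pgroup hZ
  have hwf : WellFoundedLT (Subgroup K) := inferInstance
  obtain ⟨T, ⟨hTn, hTc, p, hp, hTp⟩, hmin⟩ := hwf.wf.has_min
    {X : Subgroup K | X.Normal ∧ ¬ X ≤ center K ∧ ∃ p : ℕ, p.Prime ∧ IsPGroup p X}
    ⟨T₀, hT₀n, hT₀c, p₀, hp₀, hT₀p⟩
  haveI : T.Normal := hTn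
  haveI : Fact p.Prime := ⟨hp⟩
  have h : MinT T p := by
    refine ⟨hTp, hTc, fun N hN hle => ?_⟩
    by_cases hNZ : N ≤ center K
    · exact Or.inl hNZ
    · right
      by_contra hne
      exact hmin N ⟨hN, hNZ, p, hp, hTp.to_le hle⟩ (lt_of_le_of_ne hle hne)
  have hC := C2_eq_top h hf
  obtain ⟨L, hLZ, hLT, hL2, hL3, hL4⟩ := exists_L h
  obtain ⟨t₁, ht₁, ht₁Z⟩ := SetLike.not_le_iff_exists.1 hTc
  have h1 := hL3 t₁ ht₁ ht₁Z
  rw [hC, Subgroup.relIndex_top_right] at h1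
  obtain ⟨k₀, hk₀⟩ := hTp ⟨t₁, ht₁⟩
  have h2 : cs t₁ = f := hf t₁ ht₁Z p k₀ hp (by simpa using congrArg Subtype.val hk₀)
  obtain ⟨n, hn⟩ := IsPGroup.iff_card.1 (hTp.to_le hLT)
  refine ⟨p, n, hp, ?_⟩
  rw [← h2, ← hn]
  exact h1

end Final

end Cfsg.Agent.Lib.ThreeCl.ThmF
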