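import Cfsg.Agent.Lib.ClassGraph.Top
import Cfsg.Agent.Lib.Char.Burnside
import Cfsg.Agent.Lib.Transfer.SolvCentral
import Cfsg.Agent.Lib.Transfer.ClassSize
import Cfsg.Agent.Lib.ClassPow.Basic
import Cfsg.Agent.Lib.Solvable.Basic
import Cfsg.Agent.Lib.Rank3.Chain1
import Cfsg.Agent.S4037

/-!
# Tools for groups with few class sizes
-/

set_option autoImplicit false
set_option linter.style.haveILetI false
set_option linter.unusedSectionVars false
set_option linter.unusedVariables false

namespace Cfsg.Agent.Lib.ThreeCl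

open Subgroup Cfsg
open Cfsg.Agent.Lib.ClassGraph.Basic Cfsg.Agent.Lib.ClassGraph.Top
open scoped Pointwise

universe u

section Elements

variable {M : Type*} [Group M]

/-- Elements of powers of distinct primes as orders have coprime orders. -/
theorem pelem_coprime {x y : M} {p q a b : ℕ} (hp : p.Prime) (hq : q.Prime) (hne : p ≠ q)
    (hx : x ^ p ^ a = 1) (hy : y ^ q ^ b = 1) : (orderOf x).Coprime (orderOf y) :=
  Nat.Coprime.coprime_dvd_left (orderOf_dvd_of_pow_eq_one hx)
    (Nat.Coprime.coprime_dvd_right (orderOf_dvd_of_pow_eq_one hy)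
      (Nat.coprime_pow_primes a b hp hq hne))

variable [Finite M]

theorem eq_one_of_pelem {x : M} {p q a b : ℕ} (hp : p.Prime) (hq : q.Prime) (hne : p ≠ q)
    (hx : x ^ p ^ a = 1) (hy : x ^ q ^ b = 1) : x = 1 :=
  eq_one_of_pow_coprime (Nat.coprime_pow_primes a b hp hq hne) hx hy

theorem exists_pelem_not_mem {p : ℕ} [Fact p.Prime] (L : Subgroup M) (h : p ∣ L.index) :
    ∃ g : M, (∃ k : ℕ, g ^ p ^ k = 1) ∧ g ∉ L := by
  obtain ⟨S⟩ : Nonempty (Sylow p M) := inferInstance
  by_contra hcon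
  push Not at hcon
  have hSL : (S : Subgroup M) ≤ L := by
    intro g hg
    obtain ⟨k, hk⟩ := S.isPGroup' ⟨g, hg⟩
    exact hcon g ⟨k, by simpa using congrArg Subtype.val hk⟩
  exact S.not_dvd_index (h.trans (Subgroup.index_dvd_of_le hSL))

theorem exists_pelem_mem_not_mem {p : ℕ} [Fact p.Prime] (H L : Subgroup M) (h : p ∣ L.relIndex H) :
    ∃ g ∈ H, (∃ k : ℕ, g ^ p ^ k = 1) ∧ g ∉ L := by
  obtain ⟨g, ⟨k, hk⟩, hg⟩ := exists_pelem_not_mem (M := H) (L.subgroupOf H) h
  refine ⟨g, g.2, ⟨k, by simpa using congrArg Subtype.val hk⟩, ?_⟩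
  intro h2
  exact hg (Subgroup.mem_subgroupOf.2 h2)

theorem mem_of_coprime_index (L : Subgroup M) [L.Normal] {g : M}
    (h : (orderOf g).Coprime L.index) : g ∈ L := by
  have h1 : ((g : M) : M ⧸ L) ^ orderOf g = 1 := by
    rw [← QuotientGroup.mk_pow, pow_orderOf_eq_one]
    rfl
  have h2 : ((g : M) : M ⧸ L) ^ L.index = 1 := pow_card_eq_one'
  have h3 := eq_one_of_pow_coprime h h1 h2
  exact (QuotientGroup.eq_one_iff g).1 h3

/-- A primary power of an element outside a subgroup. -/
theorem exists_primary_not_mem (L : Subgroup M) {g : M} (hg : g ∉ L) :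
    ∃ (r k : ℕ) (j : ℤ), r.Prime ∧ (g ^ j) ^ r ^ k = 1 ∧ g ^ j ∉ L := by
  have key : ∀ n : ℕ, ∀ g : M, orderOf g = n → g ∉ L →
      ∃ (r k : ℕ) (j : ℤ), r.Prime ∧ (g ^ j) ^ r ^ k = 1 ∧ g ^ j ∉ L := by
    intro n
    induction n using Nat.strong_induction_on with
    | _ n ih =>
      intro g hn hg
      have hne : orderOf g ≠ 1 := by
        intro h1
        rw [orderOf_eq_one_iff] at h1
        exact hg (h1 ▸ L.one_mem)
      obtain ⟨r, hr, hrd⟩ := Nat.exists_prime_and_dvd hne
      obtain ⟨c, d, e, ⟨k₁, hk₁⟩, ⟨k₂, hk₂⟩, ⟨a, ha⟩, hd⟩ := exists_split g hr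
      by_cases hc : c ∈ L
      · have hdL : d ∉ L := by
          intro hdL
          exact hg (e ▸ L.mul_mem hc hdL)
        have hdo : orderOf d ∣ orderOf g := by
          rw [← hk₂]
          exact orderOf_dvd_of_pow_eq_one (by
            rw [← zpow_natCast, ← zpow_mul, mul_comm, zpow_mul, zpow_natCast, pow_orderOf_eq_one,
              one_zpow])
        have hlt : orderOf d < n := by
          rw [← hn]
          apply lt_of_le_of_ne (Nat.le_of_dvd (orderOf_pos g) hdo)
          intro h5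
          rw [h5] at hd
          exact hr.one_lt.ne' (Nat.Coprime.eq_one_of_dvd hd.symm hrd)
        obtain ⟨r', k', j', h1, h2, h3⟩ := ih _ hlt d rfl hdL
        refine ⟨r', k', k₂ * j', h1, ?_, ?_⟩
        · rw [zpow_mul, hk₂]; exact h2
        · rw [zpow_mul, hk₂]; exact h3
      · exact ⟨r, a, k₁, hr, by rw [hk₁]; exact ha, by rw [hk₁]; exact hc⟩
  exact key _ g rfl hg

/-- A subgroup containing all primary elements is the whole group. -/
theorem eq_top_of_primary (L : Subgroup M) (h : ∀ (g : M) (r k : ℕ), r.Prime → g ^ r ^ k = 1 → g ∈ L) :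
    L = ⊤ := by
  rw [eq_top_iff]
  intro g _
  by_contra hg
  obtain ⟨r, k, j, hr, h1, h2⟩ := exists_primary_not_mem L hg
  exact h2 (h _ r k hr h1)

/-- A normal subgroup which is a `p`-group lies in any subgroup of index prime to `p`. -/
theorem normal_pgroup_le {p : ℕ} [Fact p.Prime] (N Y : Subgroup M) [hN : N.Normal]
    (hp : IsPGroup p N) (h : ¬ p ∣ Y.index) : N ≤ Y := by
  obtain ⟨q, hq⟩ := hp.nonempty_fixed_point_of_prime_not_dvd_card (M ⧸ Y) h
  obtain ⟨l, rfl⟩ := QuotientGroup.mk_surjective q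
  intro g hg
  have h1 := hq ⟨l * g * l⁻¹, hN.conj_mem g hg l⟩
  have h2 : ((l * g * l⁻¹ * l : M) : M ⧸ Y) = (l : M ⧸ Y) := h1
  have h3 := QuotientGroup.eq.1 h2.symm
  have e : l⁻¹ * (l * g * l⁻¹ * l) = g := by group
  rwa [e] at h3

theorem exists_sylow_cen' {p : ℕ} [Fact p.Prime] (P : Sylow p M) {y : M} (hy : ¬ p ∣ cs y) :
    ∃ a : M, a * y * a⁻¹ ∈ centralizer ((P : Subgroup M) : Set M) := by
  obtain ⟨⟨q⟩, hq⟩ := P.isPGroup'.nonempty_fixed_point_of_prime_not_dvd_card
    (M ⧸ centralizer ({y} : Set M)) hy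
  refine ⟨q, ?_⟩
  rw [mem_centralizer_iff]
  intro h hh
  have h1 : (⟨h, hh⟩ : (P : Subgroup M)) • (q : M ⧸ centralizer ({y} : Set M)) =
      (q : M ⧸ centralizer ({y} : Set M)) := hq _
  have h2 : ((h * q : M) : M ⧸ centralizer ({y} : Set M)) = q := h1
  have h3 : q⁻¹ * (h * q) ∈ centralizer ({y} : Set M) := QuotientGroup.eq.1 h2.symm
  have h4 := mem_cen.1 h3
  calc h * (q * y * q⁻¹) = q * (q⁻¹ * (h * q) * y) * q⁻¹ := by group
    _ = q * (y * (q⁻¹ * (h * q))) * q⁻¹ := by rw [h4]
    _ = q * y * q⁻¹ * h := by group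

/-- In a group with trivial centre each prime divisor of the order divides a class size. -/
theorem exists_dvd_cs (hZ : center M = ⊥) {r : ℕ} [Fact r.Prime] (hr : r ∣ Nat.card M) :
    ∃ g : M, r ∣ cs g := by
  by_contra hcon
  push Not at hcon
  obtain ⟨P⟩ : Nonempty (Sylow r M) := inferInstance
  have hK := Cfsg.Agent.Lib.Transfer.ClassSize.eq_top_of_forall_conj_mem
    (centralizer ((P : Subgroup M) : Set M)) (fun g => exists_sylow_cen' P (hcon g))
  have hne := P.ne_bot_of_dvd_card hr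
  apply hne
  rw [eq_bot_iff, ← hZ]
  intro z hz
  rw [mem_center_iff]
  intro g
  have : g ∈ centralizer ((P : Subgroup M) : Set M) := by rw [hK]; trivial
  exact ((mem_centralizer_iff.1 this) z hz).symm

/-- Kazarin's theorem in the form needed. -/
theorem kazarin {x : M} {p k : ℕ} (hp : p.Prime) (h : cs x = p ^ k) :
    Group.IsSolvable (normalClosure ({x} : Set M)) :=
  Cfsg.Agent.S4037.result x hp k (by rw [Cfsg.Agent.Lib.ClassPow.ncard_carrier]; exact h)

/-- There is a largest solvable normal subgroup. -/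
theorem exists_max_solvable : ∃ N : Subgroup M, N.Normal ∧ Group.IsSolvable N ∧
    ∀ N' : Subgroup M, N'.Normal → Group.IsSolvable N' → N' ≤ N := by
  have hwf : WellFoundedGT (Subgroup M) := inferInstance
  obtain ⟨N, hN, hmax⟩ := hwf.wf.has_min {X : Subgroup M | X.Normal ∧ Group.IsSolvable X}
    ⟨⊥, inferInstance, inferInstance⟩
  refine ⟨N, hN.1, hN.2, fun N' hN' hs => ?_⟩
  by_contra hle
  haveI := hN.1
  haveI := hN'
  have h1 : Group.IsSolvable (N ⊔ N' : Subgroup M) :=
    Cfsg.Agent.Lib.Transfer.SolvCentral.isSolvable_sup N N' hN.2 hs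
  have h2 : (N ⊔ N').Normal := Subgroup.sup_normal N N'
  refine hmax _ ⟨h2, h1⟩ ?_
  refine lt_of_le_of_ne le_sup_left ?_
  intro e
  exact hle (e ▸ le_sup_right)

/-- A finite group in which each element is an `s`-element or has solvable normal closure is
solvable. -/
theorem solvable_of_cover {s : ℕ} (hs : s.Prime)
    (h : ∀ g : M, (∃ k : ℕ, g ^ s ^ k = 1) ∨ Group.IsSolvable (normalClosure ({g} : Set M))) :
    Group.IsSolvable M := by
  haveI : Fact s.Prime := ⟨hs⟩
  obtain ⟨N, hN, hsol, hmax⟩ := exists_max_solvable (M := M)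
  haveI := hN
  have hp : IsPGroup s (M ⧸ N) := by
    intro q
    obtain ⟨g, rfl⟩ := QuotientGroup.mk_surjective q
    rcases h g with ⟨k, hk⟩ | h1
    · exact ⟨k, by rw [← QuotientGroup.mk_pow, hk]; rfl⟩
    · have h2 : g ∈ N := hmax _ normalClosure_normal h1 (subset_normalClosure (Set.mem_singleton g))
      refine ⟨0, ?_⟩
      have : ((g : M) : M ⧸ N) = 1 := (QuotientGroup.eq_one_iff g).2 h2
      rw [this]
      simp
  haveI : Group.IsNilpotent (M ⧸ N) := hp.isNilpotent
  haveI : Group.IsSolvable (M ⧸ N) := inferInstance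
  exact Group.isSolvable_of_ker_le_range N.subtype (QuotientGroup.mk' N) (by
    rw [QuotientGroup.ker_mk', Subgroup.range_subtype])

/-- Numbers with at most two prime divisors. -/
theorem card_of_two_primes {n p q : ℕ} (hn : n ≠ 0) (hp : p.Prime) (hq : q.Prime)
    (h : ∀ r : ℕ, r.Prime → r ∣ n → r = p ∨ r = q) : ∃ i j : ℕ, n = p ^ i * q ^ j := by
  obtain ⟨i, m, hm, hnm⟩ := Nat.exists_eq_pow_mul_and_not_dvd hn p hp.ne_one
  have hm0 : m ≠ 0 := by
    rintro rfl
    simp at hnm
    exact hn hnm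
  refine ⟨i, m.primeFactorsList.length, ?_⟩
  rw [hnm]
  congr 1
  refine Nat.eq_prime_pow_of_unique_prime_dvd hm0 ?_
  intro d hd hdm
  rcases h d hd (hnm ▸ Dvd.dvd.mul_left hdm _) with h1 | h1
  · subst h1
    exact absurd hdm hm
  · exact h1

/-- The centraliser in a subgroup, in terms of relative index. -/
theorem cs_subtype (C : Subgroup M) (y : C) :
    cs y = (centralizer ({(y : M)} : Set M)).relIndex C := by
  have e : centralizer ({y} : Set C) = (centralizer ({(y : M)} : Set M)).subgroupOf C := by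
    ext c
    rw [Subgroup.mem_subgroupOf, mem_cen, mem_cen]
    constructor
    · intro h
      exact congrArg Subtype.val h
    · intro h
      exact Subtype.ext h
  change (centralizer ({y} : Set C)).index = _
  rw [e]
  rfl

end Elements

end Cfsg.Agent.Lib.ThreeCl
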