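import Cfsg.Agent.Lib.ThreeCl.CS
import Cfsg.Agent.Lib.Rank3.NoChain2
import Cfsg.Agent.Lib.Frobenius.Theorem
import Cfsg.Agent.S0042
import Cfsg.Agent.S0564

/-!
# Solvability from Frobenius structure; counting conjugates
-/

set_option autoImplicit false
set_option linter.style.haveILetI false
set_option linter.unusedSectionVars false
set_option linter.unusedVariables false

namespace Cfsg.Agent.Lib.ThreeCl.BT

open Subgroup Cfsg
open Cfsg.Agent.Lib.ClassGraph.Basic Cfsg.Agent.Lib.ClassGraph.Top Cfsg.Agent.Lib.ThreeCl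
open Cfsg.Agent.Lib.Rank3.Chain (mem_normalizer_of_conj_mem comm_of_self_cen)
open Cfsg.Agent.Lib.Rank3.NoChain (Zs Ps mem_Zs mem_Ps cs_eq_of_cen_eq cen_conj_of_norm)
open scoped commutatorElement

universe u

variable {G : Type u} [Group G] [Finite G]

theorem solvable_of_top (h : Group.IsSolvable (⊤ : Subgroup G)) : Group.IsSolvable G :=
  solvable_of_surjective (f := (⊤ : Subgroup G).subtype) (fun x => ⟨⟨x, trivial⟩, rfl⟩)

/-- A Frobenius group with solvable complement is solvable. -/
theorem solvable_of_frob {H : Subgroup G} (hH : IsFrobeniusComplement H) (hs : Group.IsSolvable H) :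
    Group.IsSolvable G := by
  obtain ⟨N, hN1, hN2, hN3⟩ := Cfsg.Agent.S0042.result H hH
  haveI := hN2
  have hc := Cfsg.Agent.Lib.Frobenius.Theorem.kernel_isComplement' hH
  have hNk : N = Cfsg.Agent.Lib.Frobenius.Theorem.kernel H :=
    SetLike.coe_injective (hN1.trans (Cfsg.Agent.Lib.Frobenius.Theorem.coe_kernel hH).symm)
  rw [← hNk] at hc
  have hsup := Cfsg.Agent.Lib.Transfer.SolvCentral.isSolvable_sup N H inferInstance hs
  rw [hc.sup_eq_top] at hsup
  exact solvable_of_top hsup

/-- **A self-centralising TI subgroup which is self-normalising gives solvability.** -/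
theorem BT {L : Subgroup G} (hT : ∀ v ∈ L, v ≠ 1 → centralizer ({v} : Set G) = L) (hne : L ≠ ⊥)
    (hN : normalizer (L : Set G) ≤ L) : Group.IsSolvable G := by
  have hcomm : ∀ a ∈ L, ∀ b ∈ L, a * b = b * a := fun a ha b hb => comm_of_self_cen hT ha hb
  by_cases htop : L = ⊤
  · apply Group.isSolvable_of_comm
    intro a b
    exact hcomm a (by rw [htop]; trivial) b (by rw [htop]; trivial)
  · have hF : IsFrobeniusComplement L := by
      refine ⟨hne, htop, fun g hg => ?_⟩
      rw [eq_bot_iff]
      intro t ht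
      obtain ⟨h1, h2⟩ := mem_inf.1 ht
      rw [Cfsg.Agent.Lib.Frobenius.Basic.mem_conj_iff] at h2
      by_contra hne'
      have ht1 : t ≠ 1 := fun h => hne' (by simp [h])
      have h3 : g⁻¹ ∈ normalizer (L : Set G) :=
        mem_normalizer_of_conj_mem hT h1 ht1 (by simpa using h2)
      exact hg (by simpa using hN h3)
    refine solvable_of_frob hF ?_
    apply Group.isSolvable_of_comm
    rintro ⟨a, ha⟩ ⟨b, hb⟩
    exact Subtype.ext (hcomm a ha b hb)

/-- The basic count for a given conjugacy of centralisers. -/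
theorem count_Ps' [Fintype G] {y : G} (hy : y ≠ 1)
    (hconj : ∀ b : G, b ≠ 1 → cs b = cs y → ∃ g₀ : G,
      centralizer ({g₀ * b * g₀⁻¹} : Set G) = centralizer ({y} : Set G)) :
    Nat.card (normalizer ((centralizer ({y} : Set G) : Subgroup G) : Set G)) * (Ps y).card ≤
      Nat.card G * (Zs y).card := by
  classical
  set N : Subgroup G := normalizer ((centralizer ({y} : Set G) : Subgroup G) : Set G) with hN
  let s : Finset (G × G) := Finset.univ ×ˢ Zs y
  let φ : G × G → G := fun p => p.1 * p.2 * p.1⁻¹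
  have hs : s.card = Nat.card G * (Zs y).card := by
    rw [Finset.card_product, Finset.card_univ, Nat.card_eq_fintype_card (α := G)]
  rw [← hs]
  refine Finset.mul_card_image_le_card_of_maps_to (f := φ) ?_ _ ?_
  · intro p hp
    have hp2 := mem_Zs.1 (Finset.mem_product.1 hp).2
    rw [mem_Ps]
    constructor
    · intro h1
      apply hp2.1
      have : p.2 = p.1⁻¹ * (p.1 * p.2 * p.1⁻¹) * p.1 := by group
      rw [this]
      simp only [φ] at h1
      rw [h1]
      group
    · simp only [φ]
      rw [cs_conj]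
      exact cs_eq_of_cen_eq hp2.2
  · intro b hb
    have hb' := mem_Ps.1 hb
    obtain ⟨g₀, hg₀⟩ := hconj b hb'.1 hb'.2
    set z₀ := g₀ * b * g₀⁻¹ with hz₀
    have hz₀1 : z₀ ≠ 1 := by
      intro h1
      apply hb'.1
      have : b = g₀⁻¹ * z₀ * g₀ := by rw [hz₀]; group
      rw [this, h1]
      group
    rw [Nat.card_eq_fintype_card, Fintype.card_subtype]
    refine Finset.card_le_card_of_injOn (fun n => (g₀⁻¹ * n, n⁻¹ * z₀ * n)) ?_ ?_
    · intro n hn
      have hn' : n ∈ N := by simpa using hn
      refine Finset.mem_filter.2 ⟨Finset.mem_product.2 ⟨Finset.mem_univ _, mem_Zs.2 ⟨?_, ?_⟩⟩, ?_⟩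
      · intro h1
        apply hz₀1
        have h1' : n⁻¹ * z₀ * n = 1 := h1
        have : z₀ = n * (n⁻¹ * z₀ * n) * n⁻¹ := by group
        rw [this, h1']
        group
      · exact cen_conj_of_norm hg₀ hn'
      · simp only [φ, hz₀]
        group
    · intro n _ n' _ e
      have := congrArg Prod.fst e
      exact mul_left_cancel this

/-- Elements with centraliser `L` live in the centre of `L`. -/
theorem Zs_card_lt_center' [Fintype G] (y : G) :
    (Zs y).card + 1 ≤ Nat.card (center (centralizer ({y} : Set G))) := by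
  classical
  set L : Subgroup G := centralizer ({y} : Set G) with hL
  set ZL : Subgroup G := (center L).map L.subtype with hZL
  have hc : Nat.card (center L) = Nat.card ZL := by
    rw [hZL, Subgroup.card_map_of_injective L.subtype_injective]
  rw [hc, Nat.card_eq_fintype_card, Fintype.card_subtype]
  have hsub : insert 1 (Zs y) ⊆ Finset.univ.filter (fun z => z ∈ ZL) := by
    intro z hz
    rw [Finset.mem_filter]
    refine ⟨Finset.mem_univ _, ?_⟩
    rcases Finset.mem_insert.1 hz with rfl | hz
    · exact ZL.one_mem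
    · have hz' := mem_Zs.1 hz
      have hzL : z ∈ L := by
        rw [hL, ← hz'.2]
        exact mem_cen.2 rfl
      refine ⟨⟨z, hzL⟩, ?_, rfl⟩
      rw [SetLike.mem_coe, mem_center_iff]
      rintro ⟨l, hl⟩
      apply Subtype.ext
      have : l ∈ centralizer ({z} : Set G) := by rw [hz'.2]; exact hl
      exact mem_cen.1 this
  have h1 := Finset.card_le_card hsub
  rwa [Finset.card_insert_of_notMem (by simp [mem_Zs])] at h1

/-- Counting elements with conjugates in a subgroup. -/
theorem count_union [Fintype G] (H N : Subgroup G)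
    (hN : ∀ n ∈ N, ∀ c ∈ H, n⁻¹ * c * n ∈ H) (S : Finset G) (h1 : 1 ∉ S)
    (hS : ∀ s ∈ S, ∃ g : G, g * s * g⁻¹ ∈ H) :
    Nat.card N * S.card ≤ Nat.card G * (Nat.card H - 1) := by
  classical
  let Hs : Finset G := Finset.univ.filter (fun t => t ∈ H ∧ t ≠ 1)
  have hHs : Hs.card = Nat.card H - 1 := by
    have h2 : Hs = (Finset.univ.filter (fun t => t ∈ H)).erase 1 := by
      ext t
      simp [Hs, and_comm]
    rw [h2, Finset.card_erase_of_mem (by simp [H.one_mem])]
    rw [Nat.card_eq_fintype_card, Fintype.card_subtype]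
  let s : Finset (G × G) := Finset.univ ×ˢ Hs
  let φ : G × G → G := fun p => p.1 * p.2 * p.1⁻¹
  have hs : s.card = Nat.card G * (Nat.card H - 1) := by
    rw [Finset.card_product, hHs, Finset.card_univ, Nat.card_eq_fintype_card (α := G)]
  rw [← hs]
  have hsub : S ⊆ s.image φ := by
    intro z hz
    obtain ⟨g, hg⟩ := hS z hz
    refine Finset.mem_image.2 ⟨(g⁻¹, g * z * g⁻¹), Finset.mem_product.2 ⟨Finset.mem_univ _,
      Finset.mem_filter.2 ⟨Finset.mem_univ _, hg, ?_⟩⟩, ?_⟩
    · intro h2
      have h3 : g * z * g⁻¹ = 1 := h2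
      have hz1 : z = 1 := by
        calc z = g⁻¹ * (g * z * g⁻¹) * g := by group
          _ = 1 := by rw [h3]; group
      exact h1 (hz1 ▸ hz)
    · simp only [φ]
      group
  have h2 : Nat.card N * (s.image φ).card ≤ s.card := by
    refine Finset.mul_card_image_le_card_of_maps_to (f := φ) (fun a ha => Finset.mem_image_of_mem _ ha) _ ?_
    intro b hb
    obtain ⟨p₀, hp₀, rfl⟩ := Finset.mem_image.1 hb
    have hp₀2 := (Finset.mem_filter.1 (Finset.mem_product.1 hp₀).2).2
    rw [Nat.card_eq_fintype_card, Fintype.card_subtype]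
    refine Finset.card_le_card_of_injOn (fun n => (p₀.1 * n, n⁻¹ * p₀.2 * n)) ?_ ?_
    · intro n hn
      have hn' : n ∈ N := by simpa using hn
      refine Finset.mem_filter.2 ⟨Finset.mem_product.2 ⟨Finset.mem_univ _,
        Finset.mem_filter.2 ⟨Finset.mem_univ _, hN n hn' _ hp₀2.1, ?_⟩⟩, ?_⟩
      · intro h3
        have h4 : n⁻¹ * p₀.2 * n = 1 := h3
        apply hp₀2.2
        calc p₀.2 = n * (n⁻¹ * p₀.2 * n) * n⁻¹ := by group
          _ = 1 := by rw [h4]; group
      · simp only [φ]
        group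
    · intro n _ n' _ e
      have := congrArg Prod.fst e
      exact mul_left_cancel this
  exact (Nat.mul_le_mul_left _ (Finset.card_le_card hsub)).trans h2

/-- A normal subgroup containing all commutators, given by intersecting transfer kernels. -/
theorem exists_M (T : Finset ℕ)
    (hT : ∀ r ∈ T, ∃ (_ : Fact r.Prime) (R : Sylow r G),
      normalizer ((R : Subgroup G) : Set G) ≤ centralizer ((R : Subgroup G) : Set G)) :
    ∃ M : Subgroup G, M.Normal ∧ (∀ x y : G, ⁅x, y⁆ ∈ M) ∧ (∀ r ∈ T, ¬ r ∣ Nat.card M) ∧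
      (∀ g : G, (∀ r ∈ T, ¬ r ∣ orderOf g) → g ∈ M) := by
  classical
  induction T using Finset.induction_on with
  | empty =>
    exact ⟨⊤, inferInstance, fun _ _ => trivial, by simp, fun _ _ => trivial⟩
  | insert r₀ T hr₀ ih =>
    obtain ⟨M, hMn, hMc, hMd, hMo⟩ := ih (fun r hr => hT r (Finset.mem_insert_of_mem hr))
    obtain ⟨hr, R, hR⟩ := hT r₀ (Finset.mem_insert_self _ _)
    haveI := hMn
    have hRle : (R : Subgroup G) ≤ normalizer ((R : Subgroup G) : Set G) := Subgroup.le_normalizer
    have hRcomm : ∀ a b : (R : Subgroup G), a * b = b * a := by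
      intro a b
      exact Subtype.ext (hR (hRle a.2) b b.2).symm
    let φ := MonoidHom.transferSylow R hR
    refine ⟨M ⊓ φ.ker, inferInstance, ?_, ?_, ?_⟩
    · intro x y
      refine mem_inf.2 ⟨hMc x y, ?_⟩
      rw [MonoidHom.mem_ker, map_commutatorElement, commutatorElement_eq_one_iff_mul_comm]
      exact hRcomm _ _
    · intro r hrr
      rcases Finset.mem_insert.1 hrr with rfl | h1
      · intro h2
        apply MonoidHom.not_dvd_card_ker_transferSylow R hR
        exact h2.trans (Subgroup.card_dvd_of_le inf_le_right)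
      · intro h2
        exact hMd r h1 (h2.trans (Subgroup.card_dvd_of_le inf_le_left))
    · intro g hg
      refine mem_inf.2 ⟨hMo g (fun r h1 => hg r (Finset.mem_insert_of_mem h1)), ?_⟩
      have h1 : ¬ r₀ ∣ orderOf g := hg r₀ (Finset.mem_insert_self _ _)
      rw [MonoidHom.mem_ker]
      obtain ⟨k, hk⟩ := R.isPGroup' (φ g)
      have h2 : (φ g) ^ orderOf g = 1 := by
        rw [← map_pow, pow_orderOf_eq_one, map_one]
      exact eq_one_of_pow_coprime (Nat.Coprime.pow_left k ((Nat.Prime.coprime_iff_not_dvd hr.out).2 h1)) hk h2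

end Cfsg.Agent.Lib.ThreeCl.BT
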