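import Cfsg.Agent.Lib.ThreeCl.PP
import Cfsg.Agent.Lib.SolvStruct.Fit
import Cfsg.Agent.Lib.Rank3.Chain2

/-!
# Three class sizes with nested centralisers: basic structure
-/

set_option autoImplicit false
set_option linter.style.haveILetI false
set_option linter.unusedSectionVars false
set_option linter.unusedVariables false

namespace Cfsg.Agent.Lib.ThreeCl.CS

open Subgroup Cfsg
open Cfsg.Agent.Lib.ClassGraph.Basic Cfsg.Agent.Lib.ClassGraph.Top Cfsg.Agent.Lib.ThreeCl
open Cfsg.Agent.Lib.Rank3.Chain (Hyp one_lt_a one_lt_b a_ne_b typeA_of_le typeB_of_le inf_index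
  exists_conj_mem_of_not_dvd_index exists_prime_order_pow orderOf_dvd_card_cen cs_ne_one)

universe u

variable {G : Type u} [Group G]

/-- The hypotheses: three realised class sizes. -/
structure Hy (G : Type u) [Group G] (a b e : ℕ) : Prop extends Hyp G a b e where
  exE : ∃ y : G, y ≠ 1 ∧ cs y = e

/-- A commutative subgroup. -/
def Ab (L : Subgroup G) : Prop := ∀ c ∈ L, ∀ d ∈ L, c * d = d * c

variable [Finite G] {a b e f : ℕ} (H : Hy G a b e)

include H

theorem ne_one_of_a {x : G} (hx : cs x = a) : x ≠ 1 := by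
  rintro rfl
  have h1 : cs (1 : G) = 1 := cs_eq_one_iff.2 (one_mem _)
  have := one_lt_a H.toHyp
  omega

theorem ne_one_of_b {x : G} (hx : cs x = b) : x ≠ 1 := by
  rintro rfl
  have h1 : cs (1 : G) = 1 := cs_eq_one_iff.2 (one_mem _)
  have := one_lt_b H.toHyp
  omega

theorem cen_eq_of_le_a {x z : G} (hx : cs x = a) (hz : z ≠ 1)
    (hle : centralizer ({x} : Set G) ≤ centralizer ({z} : Set G)) :
    centralizer ({x} : Set G) = centralizer ({z} : Set G) :=
  eq_of_le_of_index_eq hle (hx.trans (typeA_of_le H.toHyp hx hz hle).symm)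

theorem cen_eq_of_le_b {x z : G} (hx : cs x = b) (hz : z ≠ 1)
    (hle : centralizer ({x} : Set G) ≤ centralizer ({z} : Set G)) :
    centralizer ({x} : Set G) = centralizer ({z} : Set G) :=
  eq_of_le_of_index_eq hle (hx.trans (typeB_of_le H.toHyp hx hz hle).symm)

omit H in
theorem card_mul (g : G) : cs g * Nat.card (centralizer ({g} : Set G)) = Nat.card G :=
  Subgroup.index_mul_card _

omit H in
theorem card_eq_of_cs_eq {g h : G} (e : cs g = cs h) :
    Nat.card (centralizer ({g} : Set G)) = Nat.card (centralizer ({h} : Set G)) := by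
  have h1 := card_mul g
  have h2 := card_mul h
  have hpos : 0 < cs g := Nat.pos_of_ne_zero Subgroup.index_ne_zero_of_finite
  rw [← h2, ← e] at h1
  exact Nat.eq_of_mul_eq_mul_left hpos h1

omit H in
theorem pow_card_cen (g : G) : g ^ Nat.card (centralizer ({g} : Set G)) = 1 :=
  orderOf_dvd_iff_pow_eq_one.1 (Cfsg.Agent.Lib.Rank3.NoChain.orderOf_dvd_card_cen' g)

/-- `|C(x)| = f |C(y)|`. -/
theorem card_J (hf : e = a * f) {x y : G} (hx : cs x = a) (hy : cs y = e) :
    Nat.card (centralizer ({x} : Set G)) = f * Nat.card (centralizer ({y} : Set G)) := by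
  have h1 := card_mul x
  have h2 := card_mul y
  rw [hx] at h1
  rw [hy, hf, mul_assoc, ← h1] at h2
  have ha : 0 < a := by have := one_lt_a H.toHyp; omega
  exact (Nat.eq_of_mul_eq_mul_left ha h2).symm

theorem f_dvd_card (hf : e = a * f) {x : G} (hx : cs x = a) :
    f ∣ Nat.card (centralizer ({x} : Set G)) := by
  obtain ⟨y, -, hy⟩ := H.exE
  exact ⟨_, card_J H hf hx hy⟩

theorem one_lt_f (hf : e = a * f) : 1 < f := by
  have h1 := H.lt
  have ha : 0 < a := by have := one_lt_a H.toHyp; omega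
  rw [hf] at h1
  by_contra h2
  have h3 : f ≤ 1 := by omega
  have := Nat.mul_le_mul_left a h3
  omega

/-- (L3a). -/
theorem not_ab_a {x : G} (hx : cs x = a) : ¬ Ab (centralizer ({x} : Set G)) := by
  intro hab
  have hcop := H.cop
  have hT : ∀ u ∈ centralizer ({x} : Set G), u ≠ 1 →
      centralizer ({u} : Set G) = centralizer ({x} : Set G) := fun u hu hu1 =>
    (cen_eq_of_le_a H hx hu1 (fun c hc => mem_cen.2 (hab c hc u hu))).symm
  obtain ⟨w, hw1, hw⟩ := H.exB
  have hinf : centralizer ({x} : Set G) ⊓ centralizer ({w} : Set G) = ⊥ := by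
    rw [eq_bot_iff]
    intro u hu
    obtain ⟨hu1, hu2⟩ := mem_inf.1 hu
    by_contra hne
    have hne' : u ≠ 1 := fun h => hne (by simp [h])
    have hwT : w ∈ centralizer ({x} : Set G) := by
      rw [← hT u hu1 hne']
      exact mem_cen.2 (mem_cen.1 hu2).symm
    have hle : centralizer ({x} : Set G) ≤ centralizer ({w} : Set G) :=
      fun c hc => mem_cen.2 (hab c hc w hwT)
    have h1 := typeA_of_le H.toHyp hx hw1 hle
    exact a_ne_b H.toHyp (h1.symm.trans hw)
  have hidx := inf_index H.toHyp hx hw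
  rw [hinf, Subgroup.index_bot] at hidx
  have h1 := card_mul x
  rw [hx, hidx] at h1
  have ha : 0 < a := by have := one_lt_a H.toHyp; omega
  have hcardT : Nat.card (centralizer ({x} : Set G)) = b := Nat.eq_of_mul_eq_mul_left ha h1
  obtain ⟨f', hf'⟩ := H.dvd
  obtain ⟨y, hy1, hy⟩ := H.exE
  obtain ⟨r, k, hr, hrk⟩ := exists_prime_order_pow hy1
  have hdvd : r ∣ Nat.card (centralizer ({y} : Set G)) := by
    rw [← hrk]
    have h2 : y ^ k ∈ centralizer ({y} : Set G) := pow_mem (mem_cen.2 rfl) k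
    have h3 : orderOf (⟨y ^ k, h2⟩ : centralizer ({y} : Set G)) = orderOf (y ^ k) := Subgroup.orderOf_mk _ _
    rw [← h3]
    exact orderOf_dvd_natCard _
  have hrb : r ∣ b := by
    rw [← hcardT, card_J H hf' hx hy]
    exact Dvd.dvd.mul_left hdvd _
  have hra : ¬ r ∣ (centralizer ({x} : Set G)).index := by
    change ¬ r ∣ cs x
    rw [hx]
    intro hra
    have := Nat.dvd_gcd hra hrb
    rw [hcop] at this
    exact hr.one_lt.ne' (Nat.dvd_one.1 this)
  obtain ⟨l, hl⟩ := exists_conj_mem_of_not_dvd_index _ hr hrk hra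
  have hs1 : l⁻¹ * y ^ k * l ≠ 1 := by
    intro h
    have h3 : y ^ k = l * (l⁻¹ * y ^ k * l) * l⁻¹ := by group
    rw [h, mul_one, mul_inv_cancel] at h3
    rw [h3, orderOf_one] at hrk
    exact hr.one_lt.ne hrk
  have hy' : l⁻¹ * y * l ∈ centralizer ({x} : Set G) := by
    rw [← hT _ hl hs1, mem_cen]
    have e1 : l⁻¹ * y * l * (l⁻¹ * y ^ k * l) = l⁻¹ * (y * y ^ k) * l := by group
    have e2 : l⁻¹ * y ^ k * l * (l⁻¹ * y * l) = l⁻¹ * (y ^ k * y) * l := by group
    rw [e1, e2, (Commute.self_pow y k).eq]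
  have hy'1 : l⁻¹ * y * l ≠ 1 := by
    intro h
    apply hy1
    have h3 : y = l * (l⁻¹ * y * l) * l⁻¹ := by group
    rw [h, mul_one, mul_inv_cancel] at h3
    exact h3
  have hle : centralizer ({x} : Set G) ≤ centralizer ({l⁻¹ * y * l} : Set G) :=
    fun c hc => mem_cen.2 (hab c hc _ hy')
  have h4 := typeA_of_le H.toHyp hx hy'1 hle
  have h5 : cs (l⁻¹ * y * l) = cs y := by
    have := cs_conj y l⁻¹
    rwa [inv_inv] at this
  rw [h5, hy] at h4
  exact H.lt.ne h4.symm

/-- (L3b). -/
theorem ab_b {w : G} (hw : cs w = b) (hab : Ab (centralizer ({w} : Set G))) :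
    (∀ u ∈ centralizer ({w} : Set G), u ≠ 1 → centralizer ({u} : Set G) = centralizer ({w} : Set G)) ∧
    Nat.card G = a * b ∧ Nat.card (centralizer ({w} : Set G)) = a := by
  have hT : ∀ u ∈ centralizer ({w} : Set G), u ≠ 1 →
      centralizer ({u} : Set G) = centralizer ({w} : Set G) := fun u hu hu1 =>
    (cen_eq_of_le_b H hw hu1 (fun c hc => mem_cen.2 (hab c hc u hu))).symm
  obtain ⟨x, hx1, hx⟩ := H.exA
  have hinf : centralizer ({x} : Set G) ⊓ centralizer ({w} : Set G) = ⊥ := by
    rw [eq_bot_iff]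
    intro u hu
    obtain ⟨hu1, hu2⟩ := mem_inf.1 hu
    by_contra hne
    have hne' : u ≠ 1 := fun h => hne (by simp [h])
    have hwT : x ∈ centralizer ({w} : Set G) := by
      rw [← hT u hu2 hne']
      exact mem_cen.2 (mem_cen.1 hu1).symm
    have hle : centralizer ({w} : Set G) ≤ centralizer ({x} : Set G) :=
      fun c hc => mem_cen.2 (hab c hc x hwT)
    have h1 := typeB_of_le H.toHyp hw hx1 hle
    exact a_ne_b H.toHyp (hx.symm.trans h1)
  have hidx := inf_index H.toHyp hx hw
  rw [hinf, Subgroup.index_bot] at hidx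
  have h1 := card_mul w
  rw [hw, hidx, mul_comm a b] at h1
  have hb : 0 < b := by have := one_lt_b H.toHyp; omega
  exact ⟨hT, hidx, Nat.eq_of_mul_eq_mul_left hb h1⟩

/-- (L4). -/
theorem H1_C (hf : e = a * f) {x : G} (hx : cs x = a) : PP.H1 (centralizer ({x} : Set G)) f := by
  intro y u hy hu hu1 hco
  have hu1' : (u : G) ≠ 1 := fun h => hu1 (Subtype.ext h)
  have hcom : Commute (u : G) (y : G) := by
    have := mem_center_iff.1 hu y
    exact (congrArg Subtype.val this).symm
  have hco' : (orderOf (u : G)).Coprime (orderOf (y : G)) := by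
    rw [Subgroup.orderOf_coe, Subgroup.orderOf_coe]
    exact hco
  have hCu : centralizer ({(u : G)} : Set G) = centralizer ({x} : Set G) := by
    refine (cen_eq_of_le_a H hx hu1' ?_).symm
    intro c hc
    have := mem_center_iff.1 hu ⟨c, hc⟩
    exact mem_cen.2 (congrArg Subtype.val this)
  have hst := cen_mul_eq hcom hco'
  rw [hCu] at hst
  have hz1 : (u : G) * y ≠ 1 := by
    intro h
    have h2 : (u : G) = (y : G)⁻¹ := eq_inv_of_mul_eq_one_left h
    have h3 : orderOf (u : G) = orderOf (y : G) := by rw [h2, orderOf_inv]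
    rw [h3, Nat.coprime_self] at hco'
    have h4 : (y : G) = 1 := orderOf_eq_one_iff.1 hco'
    rw [h4, inv_one] at h2
    exact hu1' h2
  have hne : centralizer ({(u : G) * y} : Set G) ≠ centralizer ({x} : Set G) := by
    intro h
    apply hy
    rw [mem_center_iff]
    intro c
    have h2 : (c : G) ∈ centralizer ({(u : G) * y} : Set G) := h.ge c.2
    rw [hst] at h2
    exact Subtype.ext (mem_cen.1 (mem_inf.1 h2).2)
  have hzC : centralizer ({(u : G) * y} : Set G) ≤ centralizer ({x} : Set G) := hst ▸ inf_le_left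
  have hae : cs ((u : G) * y) = e := by
    have had : a ∣ cs ((u : G) * y) := by
      rw [← hx]
      exact Subgroup.index_dvd_of_le hzC
    rcases H.sz _ hz1 with h1 | h1 | h1
    · exact absurd (eq_of_le_of_index_eq hzC (h1.trans hx.symm)) hne
    · rw [h1] at had
      have := Nat.Coprime.eq_one_of_dvd H.cop had
      have := one_lt_a H.toHyp
      omega
    · exact h1
  rw [cs_subtype, ← Subgroup.inf_relIndex_left, ← hst]
  have h1 := Subgroup.relIndex_mul_index
    (inf_le_left : centralizer ({x} : Set G) ⊓ centralizer ({(y : G)} : Set G) ≤ centralizer ({x} : Set G))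
  rw [← hst] at h1
  change _ * cs x = cs ((u : G) * y) at h1
  rw [hx, hae, hf, mul_comm a f] at h1
  have ha : 0 < a := by have := one_lt_a H.toHyp; omega
  exact Nat.eq_of_mul_eq_mul_right ha h1

theorem center_C_ne_bot {x : G} (hx : cs x = a) : center (centralizer ({x} : Set G)) ≠ ⊥ := by
  intro h
  have hx1 := ne_one_of_a H hx
  have h1 : (⟨x, mem_cen.2 rfl⟩ : centralizer ({x} : Set G)) ∈ center (centralizer ({x} : Set G)) := by
    rw [mem_center_iff]
    rintro ⟨c, hc⟩
    exact Subtype.ext (mem_cen.1 hc)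
  rw [h, Subgroup.mem_bot] at h1
  exact hx1 (congrArg Subtype.val h1)

theorem center_C_ne_top {x : G} (hx : cs x = a) : center (centralizer ({x} : Set G)) ≠ ⊤ := by
  intro h
  apply not_ab_a H hx
  intro c hc d hd
  have h1 : (⟨c, hc⟩ : centralizer ({x} : Set G)) ∈ center (centralizer ({x} : Set G)) := by
    rw [h]; trivial
  exact (congrArg Subtype.val (mem_center_iff.1 h1 ⟨d, hd⟩)).symm

/-- **Step A**: `f` is a prime power. -/
theorem prime_power_f (hf : e = a * f) : ∃ s n : ℕ, s.Prime ∧ f = s ^ n := by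
  obtain ⟨x, -, hx⟩ := H.exA
  exact PP.prime_power (H1_C H hf hx) (f_dvd_card H hf hx) (center_C_ne_bot H hx)
    (center_C_ne_top H hx)

/-- If the centre of `C(x)` is a `p`-group then `f` is a power of `p`. -/
theorem f_power_of_center (hf : e = a * f) {x : G} (hx : cs x = a) {p : ℕ} (hp : p.Prime)
    (hZ : IsPGroup p (center (centralizer ({x} : Set G)))) : ∃ n, f = p ^ n :=
  PP.typeP (H1_C H hf hx) (f_dvd_card H hf hx) hp hZ (center_C_ne_bot H hx)

/-- The symmetric situation. -/
theorem symm_of_eq (hf : e = a * b) : Hy G b a e where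
  sz := fun g hg => by
    rcases H.sz g hg with h | h | h
    · exact Or.inr (Or.inl h)
    · exact Or.inl h
    · exact Or.inr (Or.inr h)
  cop := H.cop.symm
  dvd := ⟨a, by rw [hf, mul_comm]⟩
  lt := by
    rw [hf]
    have := one_lt_a H.toHyp
    have := one_lt_b H.toHyp
    nlinarith
  exA := H.exB
  exB := H.exA
  cen := H.cen
  exE := H.exE

/-- The Sylow `p`-subgroup argument. -/
theorem hall_elem {x : G} (hx : cs x = a) {p : ℕ} [hp : Fact p.Prime] (hpa : p ∣ a)
    (hpC : p ∣ Nat.card (centralizer ({x} : Set G))) :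
    ∃ v ∈ centralizer ({x} : Set G), v ≠ 1 ∧ (∃ k : ℕ, v ^ p ^ k = 1) ∧ cs v = b ∧
      ¬ centralizer ({x} : Set G) ≤ centralizer ({v} : Set G) := by
  classical
  have hpr : p.Prime := hp.out
  set C := centralizer ({x} : Set G) with hC
  obtain ⟨R₀⟩ : Nonempty (Sylow p C) := inferInstance
  let R : Subgroup G := (R₀ : Subgroup C).map C.subtype
  have hRp : IsPGroup p R := R₀.isPGroup'.map _
  have hRC : R ≤ C := by
    rintro _ ⟨c, -, rfl⟩
    exact c.2
  have hcardR : Nat.card R = Nat.card (R₀ : Subgroup C) :=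
    Subgroup.card_map_of_injective C.subtype_injective
  have hRne : R ≠ ⊥ := by
    intro h
    have h1 : (R₀ : Subgroup C) = ⊥ := by
      rw [eq_bot_iff]
      intro c hc
      have : (c : G) ∈ R := ⟨c, hc, rfl⟩
      rw [h, Subgroup.mem_bot] at this
      exact Subtype.ext this
    exact R₀.ne_bot_of_dvd_card hpC h1
  obtain ⟨P, hRP⟩ := hRp.exists_le_sylow
  have hRneP : R ≠ (P : Subgroup G) := by
    intro h
    apply P.not_dvd_index
    have h1 : (P : Subgroup G) ≤ C := h ▸ hRC
    refine Dvd.dvd.trans ?_ (Subgroup.index_dvd_of_le h1)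
    change p ∣ cs x
    rw [hx]
    exact hpa
  -- the normaliser in `P`
  let R' : Subgroup (P : Subgroup G) := R.subgroupOf P
  have hR'top : R' ≠ ⊤ := by
    intro h
    apply hRneP
    refine le_antisymm hRP ?_
    intro g hg
    have : (⟨g, hg⟩ : (P : Subgroup G)) ∈ R' := by rw [h]; trivial
    exact Subgroup.mem_subgroupOf.1 this
  haveI hPnil : Group.IsNilpotent (P : Subgroup G) := P.isPGroup'.isNilpotent
  have hlt : R' < normalizer (R' : Set (P : Subgroup G)) :=
    Group.normalizerCondition_of_isNilpotent R' (lt_top_iff_ne_top.2 hR'top)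
  -- the subgroup `P₁`
  let P₁ : Subgroup G := (normalizer (R' : Set (P : Subgroup G))).map (P : Subgroup G).subtype
  have hP₁P : P₁ ≤ P := by
    rintro _ ⟨c, -, rfl⟩
    exact c.2
  have hP₁p : IsPGroup p P₁ := P.isPGroup'.to_le hP₁P
  have hRP₁ : R ≤ P₁ := by
    intro g hg
    refine ⟨⟨g, hRP hg⟩, ?_, rfl⟩
    exact Subgroup.le_normalizer (Subgroup.mem_subgroupOf.2 hg)
  have hRneP₁ : R ≠ P₁ := by
    intro h
    obtain ⟨g, hg, hg2⟩ := SetLike.exists_of_lt hlt
    apply hg2
    apply Subgroup.mem_subgroupOf.2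
    rw [h]
    exact ⟨g, hg, rfl⟩
  -- a central element
  have hRn : (R.subgroupOf P₁).Normal := by
    constructor
    rintro ⟨n, hn⟩ hn2 ⟨g, hg⟩
    rw [Subgroup.mem_subgroupOf] at hn2 ⊢
    obtain ⟨g', hg', rfl⟩ := hg
    have h1 : (⟨n, hP₁P hn⟩ : (P : Subgroup G)) ∈ R' := Subgroup.mem_subgroupOf.2 hn2
    have h2 := (mem_normalizer_iff.1 hg' _).1 h1
    exact Subgroup.mem_subgroupOf.1 h2
  haveI hP₁nil : Group.IsNilpotent P₁ := hP₁p.isNilpotent
  have hne2 : R.subgroupOf P₁ ≠ ⊥ := by
    intro h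
    apply hRne
    rw [eq_bot_iff]
    intro g hg
    have : (⟨g, hRP₁ hg⟩ : P₁) ∈ R.subgroupOf P₁ := Subgroup.mem_subgroupOf.2 hg
    rw [h, Subgroup.mem_bot] at this
    simpa using congrArg Subtype.val this
  have hcen := Cfsg.Agent.Lib.SolvStruct.Fit.inf_center_ne_bot (R.subgroupOf P₁) hne2
  obtain ⟨⟨v, hvP₁⟩, hv, hv1⟩ := (Subgroup.bot_or_exists_ne_one _).resolve_left hcen
  have hvR : v ∈ R := Subgroup.mem_subgroupOf.1 (mem_inf.1 hv).1
  have hvZ := mem_center_iff.1 (mem_inf.1 hv).2
  have hv1' : v ≠ 1 := fun h => hv1 (Subtype.ext h)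
  have hP₁v : P₁ ≤ centralizer ({v} : Set G) := by
    intro g hg
    exact mem_cen.2 (congrArg Subtype.val (hvZ ⟨g, hg⟩))
  obtain ⟨k, hk⟩ := hRp ⟨v, hvR⟩
  have hk' : v ^ p ^ k = 1 := by simpa using congrArg Subtype.val hk
  have hvC : v ∈ C := hRC hvR
  -- `|P₁| ∤ |C|`
  have hcard : ¬ Nat.card P₁ ∣ Nat.card C := by
    intro hd
    obtain ⟨m, hm⟩ := IsPGroup.iff_card.1 hP₁p
    rw [hm] at hd
    have h1 : Nat.card P₁ ≤ Nat.card R := by
      rw [hm, hcardR, R₀.card_eq_multiplicity]
      apply Nat.pow_le_pow_right hpr.pos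
      exact (hpr.pow_dvd_iff_le_factorization Nat.card_pos.ne').1 hd
    apply hRneP₁
    exact Subgroup.eq_of_le_of_card_ge hRP₁ h1
  have hP₁dvd : Nat.card P₁ ∣ Nat.card (centralizer ({v} : Set G)) := Subgroup.card_dvd_of_le hP₁v
  have hnotdvd : ¬ a ∣ cs v := by
    rintro ⟨t, ht⟩
    apply hcard
    refine hP₁dvd.trans ?_
    have h1 := card_mul v
    have h2 := card_mul x
    rw [ht, hx.symm, mul_assoc, ← h2] at h1
    have hapos : 0 < cs x := Nat.pos_of_ne_zero Subgroup.index_ne_zero_of_finite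
    exact ⟨t, by rw [← Nat.eq_of_mul_eq_mul_left hapos h1, mul_comm]⟩
  have hb : cs v = b := by
    rcases H.sz v hv1' with h | h | h
    · exact absurd (h ▸ dvd_rfl) hnotdvd
    · exact h
    · exact absurd (h ▸ H.dvd) hnotdvd
  refine ⟨v, hvC, hv1', ⟨k, hk'⟩, hb, ?_⟩
  intro hle
  have hb2 := typeA_of_le H.toHyp hx hv1' hle
  exact a_ne_b H.toHyp (hb2.symm.trans hb)

/-- The dichotomy from the Sylow argument. -/
theorem hall_dich (hf : e = a * f) {x v : G} (hx : cs x = a) {p k : ℕ} (hp : p.Prime)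
    (hvC : v ∈ centralizer ({x} : Set G)) (hvk : v ^ p ^ k = 1) (hv : cs v = b)
    (hvZ : ¬ centralizer ({x} : Set G) ≤ centralizer ({v} : Set G)) :
    f = b ∨ IsPGroup p (center (centralizer ({x} : Set G))) := by
  classical
  haveI : Fact p.Prime := ⟨hp⟩
  by_cases hZ : IsPGroup p (center (centralizer ({x} : Set G)))
  · exact Or.inr hZ
  left
  obtain ⟨q, hq, hqZ, hqp⟩ : ∃ q : ℕ, q.Prime ∧ q ∣ Nat.card (center (centralizer ({x} : Set G))) ∧ q ≠ p := by
    by_contra hcon
    push Not at hcon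
    apply hZ
    exact IsPGroup.of_card (Nat.eq_prime_pow_of_unique_prime_dvd Nat.card_pos.ne'
      (fun {d} hd hdZ => hcon d hd hdZ))
  haveI : Fact q.Prime := ⟨hq⟩
  obtain ⟨u, hu⟩ := exists_prime_orderOf_dvd_card' (G := center (centralizer ({x} : Set G))) q hqZ
  have hu1 : ((u : centralizer ({x} : Set G))) ≠ 1 := by
    intro h
    have : u = 1 := Subtype.ext h
    rw [this, orderOf_one] at hu
    exact hq.one_lt.ne hu
  have huq : (u : centralizer ({x} : Set G)) ^ q ^ 1 = 1 := by
    have := pow_orderOf_eq_one u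
    rw [hu] at this
    rw [pow_one]
    simpa using congrArg Subtype.val this
  have hvk' : (⟨v, hvC⟩ : centralizer ({x} : Set G)) ^ p ^ k = 1 := Subtype.ext hvk
  have hvnZ : (⟨v, hvC⟩ : centralizer ({x} : Set G)) ∉ center (centralizer ({x} : Set G)) := by
    intro h
    apply hvZ
    intro c hc
    exact mem_cen.2 (congrArg Subtype.val (mem_center_iff.1 h ⟨c, hc⟩))
  have h1 := H1_C H hf hx _ _ hvnZ u.2 hu1 (pelem_coprime hq hp hqp huq hvk')
  rw [← h1, cs_subtype]
  obtain ⟨w, hw1, hw⟩ := H.exB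
  have hrel : (centralizer ({v} : Set G)).relIndex (centralizer ({x} : Set G)) = b := by
    have h2 := Subgroup.relIndex_mul_index
      (inf_le_left : centralizer ({x} : Set G) ⊓ centralizer ({v} : Set G) ≤ centralizer ({x} : Set G))
    rw [Subgroup.inf_relIndex_left, inf_index H.toHyp hx hv] at h2
    change _ * cs x = _ at h2
    rw [hx, mul_comm a b] at h2
    have ha : 0 < a := by have := one_lt_a H.toHyp; omega
    exact Nat.eq_of_mul_eq_mul_right ha h2
  exact hrel

/-- (α): if `b ∤ f`, the centraliser of an element of size `b` is abelian or of prime power order. -/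
theorem alpha (hf : e = a * f) (hbf : ¬ b ∣ f) {w : G} (hw : cs w = b) :
    Ab (centralizer ({w} : Set G)) ∨ ∃ r : ℕ, r.Prime ∧ IsPGroup r (centralizer ({w} : Set G)) := by
  classical
  by_cases hab : Ab (centralizer ({w} : Set G))
  · exact Or.inl hab
  right
  set D := centralizer ({w} : Set G) with hD
  have hw1 : w ≠ 1 := ne_one_of_b H hw
  -- no coprime central element
  have hno : ∀ y u : D, y ∉ center D → u ∈ center D → u ≠ 1 → ¬ (orderOf u).Coprime (orderOf y) := by
    intro y u hy hu hu1 hco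
    have hu1' : (u : G) ≠ 1 := fun h => hu1 (Subtype.ext h)
    have hcom : Commute (u : G) (y : G) := by
      have := mem_center_iff.1 hu y
      exact (congrArg Subtype.val this).symm
    have hco : (orderOf (u : G)).Coprime (orderOf (y : G)) := by
      rw [Subgroup.orderOf_coe, Subgroup.orderOf_coe]
      exact hco
    have hCu : centralizer ({(u : G)} : Set G) = D := by
      refine (cen_eq_of_le_b H hw hu1' ?_).symm
      intro c hc
      have := mem_center_iff.1 hu ⟨c, hc⟩
      exact mem_cen.2 (congrArg Subtype.val this)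
    have hst := cen_mul_eq hcom hco
    rw [hCu] at hst
    have hz1 : (u : G) * y ≠ 1 := by
      intro h
      have h2 : (u : G) = (y : G)⁻¹ := eq_inv_of_mul_eq_one_left h
      have h3 : orderOf (u : G) = orderOf (y : G) := by rw [h2, orderOf_inv]
      rw [h3, Nat.coprime_self] at hco
      have h4 : (y : G) = 1 := orderOf_eq_one_iff.1 hco
      rw [h4, inv_one] at h2
      exact hu1' h2
    have hne : centralizer ({(u : G) * y} : Set G) ≠ D := by
      intro h
      apply hy
      rw [mem_center_iff]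
      intro c
      have h2 : (c : G) ∈ centralizer ({(u : G) * y} : Set G) := h.ge c.2
      rw [hst] at h2
      exact Subtype.ext (mem_cen.1 (mem_inf.1 h2).2)
    have hzC : centralizer ({(u : G) * y} : Set G) ≤ D := hst ▸ inf_le_left
    have had : b ∣ cs ((u : G) * y) := by
      rw [← hw]
      exact Subgroup.index_dvd_of_le hzC
    rcases H.sz _ hz1 with h1 | h1 | h1
    · rw [h1] at had
      have := Nat.Coprime.eq_one_of_dvd H.cop.symm had
      have := one_lt_b H.toHyp
      omega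
    · exact hne (eq_of_le_of_index_eq hzC (h1.trans hw.symm))
    · rw [h1, hf] at had
      exact hbf (Nat.Coprime.dvd_of_dvd_mul_left H.cop.symm had)
  -- a noncentral element
  have hnc : ∃ g : D, g ∉ center D := by
    by_contra hcon
    push Not at hcon
    apply hab
    intro c hc d hd
    exact (congrArg Subtype.val (mem_center_iff.1 (hcon ⟨c, hc⟩) ⟨d, hd⟩)).symm
  obtain ⟨g, hg⟩ := hnc
  obtain ⟨r, k, j, hr, h1, h2⟩ := exists_primary_not_mem (center D) hg
  refine ⟨r, hr, ?_⟩
  haveI : Fact r.Prime := ⟨hr⟩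
  have hZr : IsPGroup r (center D) := by
    refine IsPGroup.of_card (Nat.eq_prime_pow_of_unique_prime_dvd Nat.card_pos.ne' ?_)
    intro ℓ hℓ hℓZ
    by_contra hne
    haveI : Fact ℓ.Prime := ⟨hℓ⟩
    obtain ⟨u, hu⟩ := exists_prime_orderOf_dvd_card' (G := center D) ℓ hℓZ
    have hu1 : (u : D) ≠ 1 := by
      intro h
      have : u = 1 := Subtype.ext h
      rw [this, orderOf_one] at hu
      exact hℓ.one_lt.ne hu
    have huq : (u : D) ^ ℓ ^ 1 = 1 := by
      have := pow_orderOf_eq_one u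
      rw [hu] at this
      rw [pow_one]
      simpa using congrArg Subtype.val this
    exact hno _ u h2 u.2 hu1 (pelem_coprime hℓ hr hne huq h1)
  refine IsPGroup.of_card (Nat.eq_prime_pow_of_unique_prime_dvd Nat.card_pos.ne' ?_)
  intro q hq hqD
  by_contra hne
  haveI : Fact q.Prime := ⟨hq⟩
  obtain ⟨z, hz⟩ := exists_prime_orderOf_dvd_card' (G := D) q hqD
  have hzq : z ^ q ^ 1 = 1 := by
    rw [pow_one, ← hz]
    exact pow_orderOf_eq_one z
  have hz1 : z ≠ 1 := by
    rintro rfl
    rw [orderOf_one] at hz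
    exact hq.one_lt.ne hz
  have hzZ : z ∉ center D := by
    intro hzc
    obtain ⟨l, hl⟩ := hZr ⟨z, hzc⟩
    have hl' : z ^ r ^ l = 1 := by simpa using congrArg Subtype.val hl
    exact hz1 (eq_one_of_pelem hq hr hne hzq hl')
  have hwD : (⟨w, mem_cen.2 rfl⟩ : D) ∈ center D := by
    rw [mem_center_iff]
    rintro ⟨c, hc⟩
    exact Subtype.ext (mem_cen.1 hc)
  have hwD1 : (⟨w, mem_cen.2 rfl⟩ : D) ≠ 1 := fun h => hw1 (congrArg Subtype.val h)
  obtain ⟨l, hl⟩ := hZr ⟨_, hwD⟩
  have hl' : (⟨w, mem_cen.2 rfl⟩ : D) ^ r ^ l = 1 := by simpa using congrArg Subtype.val hl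
  exact hno z _ hzZ hwD hwD1 (pelem_coprime hr hq (Ne.symm hne) hl' hzq)

end Cfsg.Agent.Lib.ThreeCl.CS
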