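import Cfsg.Agent.Lib.ThreeCl.BT

/-!
# Three class sizes with nested centralisers: solvability
-/

set_option autoImplicit false
set_option linter.style.haveILetI false
set_option linter.unusedSectionVars false
set_option linter.unusedVariables false

namespace Cfsg.Agent.Lib.ThreeCl.Cases

open Subgroup Cfsg
open Cfsg.Agent.Lib.ClassGraph.Basic Cfsg.Agent.Lib.ClassGraph.Top Cfsg.Agent.Lib.ThreeCl
open Cfsg.Agent.Lib.ThreeCl.CS Cfsg.Agent.Lib.ThreeCl.BT
open Cfsg.Agent.Lib.Rank3.Chain (Hyp one_lt_a one_lt_b a_ne_b typeA_of_le typeB_of_le inf_index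
  exists_conj_mem_of_not_dvd_index exists_prime_order_pow cs_ne_one mem_normalizer_of_conj_mem
  comm_of_self_cen)
open Cfsg.Agent.Lib.Rank3.NoChain (Zs Ps mem_Zs mem_Ps mem_smul_sylow' exists_center_sylow)
open scoped commutatorElement

universe u

variable {G : Type u} [Group G] [Finite G] {a b e f : ℕ} (H : Hy G a b e)

include H

/-- Every prime dividing the order divides a class size. -/
theorem prime_dvd {r : ℕ} (hr : r.Prime) (hrG : r ∣ Nat.card G) : r ∣ a ∨ r ∣ b ∨ r ∣ e := by
  haveI : Fact r.Prime := ⟨hr⟩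
  obtain ⟨g, hg⟩ := exists_dvd_cs H.cen hrG
  by_cases hg1 : g = 1
  · subst hg1
    have h1 : cs (1 : G) = 1 := cs_eq_one_iff.2 (one_mem _)
    rw [h1] at hg
    exact absurd (Nat.dvd_one.1 hg) hr.one_lt.ne'
  · rcases H.sz g hg1 with h | h | h
    · exact Or.inl (h ▸ hg)
    · exact Or.inr (Or.inl (h ▸ hg))
    · exact Or.inr (Or.inr (h ▸ hg))

/-- The case `e = a b`. -/
theorem case_fb (hf : e = a * b) : Group.IsSolvable G := by
  obtain ⟨s, n, hs, hn⟩ := prime_power_f H hf
  have H' := symm_of_eq H hf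
  obtain ⟨t, m, ht, hm⟩ := prime_power_f H' (f := a) (by rw [hf, mul_comm])
  obtain ⟨i, j, hij⟩ := card_of_two_primes (n := Nat.card G) Nat.card_pos.ne' hs ht (by
    intro r hr hrG
    have h1 : r ∣ a → r = t := fun h => by
      rw [hm] at h
      exact (Nat.prime_dvd_prime_iff_eq hr ht).1 (hr.dvd_of_dvd_pow h)
    have h2 : r ∣ b → r = s := fun h => by
      rw [hn] at h
      exact (Nat.prime_dvd_prime_iff_eq hr hs).1 (hr.dvd_of_dvd_pow h)
    rcases prime_dvd H hr hrG with h | h | h
    · exact Or.inr (h1 h)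
    · exact Or.inl (h2 h)
    · rw [hf] at h
      rcases (Nat.Prime.dvd_mul hr).1 h with h | h
      · exact Or.inr (h1 h)
      · exact Or.inl (h2 h))
  exact Cfsg.Agent.Lib.Char.Burnside.isSolvable_of_card_eq s t i j hs ht hij

theorem not_dvd_of_s {s n : ℕ} (hs : s.Prime) (hfs : f = s ^ n) (hsa : s ∣ a) : ¬ b ∣ f := by
  intro hbf
  rw [hfs] at hbf
  obtain ⟨j, -, hj⟩ := (Nat.dvd_prime_pow hs).1 hbf
  have hb1 := one_lt_b H.toHyp
  have hj0 : j ≠ 0 := by
    rintro rfl
    rw [pow_zero] at hj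
    omega
  have hsb : s ∣ b := by
    rw [hj]
    exact dvd_pow_self s hj0
  have := Nat.dvd_gcd hsa hsb
  rw [H.cop] at this
  exact hs.one_lt.ne' (Nat.dvd_one.1 this)

/-- The case `s ∣ a`. -/
theorem case_B {s n : ℕ} (hs : s.Prime) (hf : e = a * f) (hfs : f = s ^ n) (hsa : s ∣ a)
    (hfb : f ≠ b) : Group.IsSolvable G := by
  haveI : Fact s.Prime := ⟨hs⟩
  obtain ⟨x, -, hx⟩ := H.exA
  have hf1 := one_lt_f H hf
  have hn0 : n ≠ 0 := by
    rintro rfl
    rw [pow_zero] at hfs
    omega
  have hsf : s ∣ f := by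
    rw [hfs]
    exact dvd_pow_self s hn0
  obtain ⟨v, hvC, hv1, ⟨k, hk⟩, hvb, hvZ⟩ := hall_elem H hx hsa (hsf.trans (f_dvd_card H hf hx))
  have hbf := not_dvd_of_s H hs hfs hsa
  have hxv : x ∈ centralizer ({v} : Set G) := mem_cen.2 (mem_cen.1 hvC).symm
  have hx1 := ne_one_of_a H hx
  rcases CS.alpha H hf hbf hvb with hab | ⟨r, hr, hrD⟩
  · exfalso
    have hle : centralizer ({v} : Set G) ≤ centralizer ({x} : Set G) :=
      fun c hc => mem_cen.2 (hab c hc x hxv)
    have h1 := typeB_of_le H.toHyp hvb hx1 hle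
    exact a_ne_b H.toHyp (hx.symm.trans h1)
  · have hrs : r = s := by
      by_contra hne
      obtain ⟨l, hl⟩ := hrD ⟨v, mem_cen.2 rfl⟩
      have hl' : v ^ r ^ l = 1 := by simpa using congrArg Subtype.val hl
      exact hv1 (eq_one_of_pelem hr hs hne hl' hk)
    subst hrs
    obtain ⟨d, hd⟩ := IsPGroup.iff_card.1 hrD
    have h1 := card_mul x
    have h2 := card_mul v
    rw [hx] at h1
    rw [hvb, hd, ← h1] at h2
    have hadvd : a ∣ r ^ d := by
      have : a ∣ b * r ^ d := ⟨_, h2⟩
      exact Nat.Coprime.dvd_of_dvd_mul_left H.cop this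
    obtain ⟨k', -, hk'⟩ := (Nat.dvd_prime_pow hr).1 hadvd
    apply solvable_of_cover hr
    intro g
    by_cases hg1 : g = 1
    · exact Or.inl ⟨0, by simp [hg1]⟩
    rcases H.sz g hg1 with hg | hg | hg
    · exact Or.inr (kazarin hr (hg.trans hk'))
    · refine Or.inl ⟨d, ?_⟩
      have h3 := card_eq_of_cs_eq (hg.trans hvb.symm)
      rw [hd] at h3
      rw [← h3]
      exact pow_card_cen g
    · refine Or.inr (kazarin (k := k' + n) hr ?_)
      rw [hg, hf, hfs, hk', pow_add]

/-- The key coprimality. -/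
theorem cop_C {s n : ℕ} (hs : s.Prime) (hf : e = a * f) (hfs : f = s ^ n) (hsa : ¬ s ∣ a)
    (hfb : f ≠ b) {x : G} (hx : cs x = a) : (Nat.card (centralizer ({x} : Set G))).Coprime a := by
  by_contra hnot
  obtain ⟨p, hp, hpC, hpa⟩ := Nat.Prime.not_coprime_iff_dvd.1 hnot
  haveI : Fact p.Prime := ⟨hp⟩
  obtain ⟨v, hvC, hv1, ⟨k, hk⟩, hvb, hvZ⟩ := hall_elem H hx hpa hpC
  rcases hall_dich H hf hx hp hvC hk hvb hvZ with h | h
  · exact hfb h
  · obtain ⟨m, hm⟩ := f_power_of_center H hf hx hp h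
    have hf1 := one_lt_f H hf
    have hm0 : m ≠ 0 := by
      rintro rfl
      rw [pow_zero] at hm
      omega
    have hpf : p ∣ f := by
      rw [hm]
      exact dvd_pow_self p hm0
    rw [hfs] at hpf
    have := (Nat.prime_dvd_prime_iff_eq hp hs).1 (hp.dvd_of_dvd_pow hpf)
    rw [this] at hpa
    exact hsa hpa

/-- The case `b ∣ f`. -/
theorem case_C1 {s n : ℕ} (hs : s.Prime) (hf : e = a * f) (hfs : f = s ^ n) (hsa : ¬ s ∣ a)
    (hfb : f ≠ b) (hbf : b ∣ f) : Group.IsSolvable G := by
  haveI : Fact s.Prime := ⟨hs⟩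
  obtain ⟨x, -, hx⟩ := H.exA
  have hco := cop_C H hs hf hfs hsa hfb hx
  have hbs := hbf
  rw [hfs] at hbs
  obtain ⟨m, -, hm⟩ := (Nat.dvd_prime_pow hs).1 hbs
  have hCs : Nat.card (centralizer ({x} : Set G)) =
      s ^ (Nat.card (centralizer ({x} : Set G))).primeFactorsList.length := by
    refine Nat.eq_prime_pow_of_unique_prime_dvd Nat.card_pos.ne' ?_
    intro r hr hrC
    by_contra hne
    have hrG : r ∣ Nat.card G := hrC.trans (Subgroup.card_subgroup_dvd_card _)
    have hrs : ¬ r ∣ f := by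
      rw [hfs]
      intro h
      exact hne ((Nat.prime_dvd_prime_iff_eq hr hs).1 (hr.dvd_of_dvd_pow h))
    have hra : ¬ r ∣ a := by
      intro h
      have := Nat.dvd_gcd hrC h
      rw [hco] at this
      exact hr.one_lt.ne' (Nat.dvd_one.1 this)
    rcases prime_dvd H hr hrG with h | h | h
    · exact hra h
    · exact hrs (h.trans hbf)
    · rw [hf] at h
      rcases (Nat.Prime.dvd_mul hr).1 h with h | h
      · exact hra h
      · exact hrs h
  set c := (Nat.card (centralizer ({x} : Set G))).primeFactorsList.length with hc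
  apply solvable_of_cover hs
  intro g
  by_cases hg1 : g = 1
  · exact Or.inl ⟨0, by simp [hg1]⟩
  rcases H.sz g hg1 with hg | hg | hg
  · refine Or.inl ⟨c, ?_⟩
    have h3 := card_eq_of_cs_eq (hg.trans hx.symm)
    rw [hCs] at h3
    rw [← h3]
    exact pow_card_cen g
  · exact Or.inr (kazarin hs (hg.trans hm))
  · refine Or.inl ⟨c, ?_⟩
    have h3 := card_J H hf hx hg
    rw [← hCs, h3, pow_mul', pow_card_cen g, one_pow]

/-- The structure in the last case. -/
theorem struct_C2 {s n : ℕ} (hs : s.Prime) (hf : e = a * f) (hfs : f = s ^ n) (hsa : ¬ s ∣ a)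
    (hfb : f ≠ b) (hbf : ¬ b ∣ f) : ∃ z : G, cs z = b ∧ Nat.card G = a * b ∧
      Nat.card (centralizer ({z} : Set G)) = a ∧
      (Ab (centralizer ({z} : Set G)) ∨
        ∃ p : ℕ, p.Prime ∧ p ∣ a ∧ IsPGroup p (centralizer ({z} : Set G))) := by
  classical
  have ha1 := one_lt_a H.toHyp
  obtain ⟨p, hp, hpa⟩ := Nat.exists_prime_and_dvd (show a ≠ 1 by omega)
  haveI : Fact p.Prime := ⟨hp⟩
  obtain ⟨x, -, hx⟩ := H.exA
  have hpG : p ∣ Nat.card G := by
    refine hpa.trans ?_
    rw [← hx]
    exact Subgroup.index_dvd_card _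
  obtain ⟨P⟩ : Nonempty (Sylow p G) := inferInstance
  obtain ⟨z, hzP, hz1, hPz⟩ := exists_center_sylow P (P.ne_bot_of_dvd_card hpG)
  have hpz : ¬ p ∣ cs z := fun h => P.not_dvd_index (h.trans (Subgroup.index_dvd_of_le hPz))
  have hzb : cs z = b := by
    rcases H.sz z hz1 with h | h | h
    · exact absurd (h ▸ hpa) hpz
    · exact h
    · exact absurd (h ▸ hpa.trans H.dvd) hpz
  refine ⟨z, hzb, ?_⟩
  have hb0 : 0 < b := by have := one_lt_b H.toHyp; omega
  rcases CS.alpha H hf hbf hzb with hab | ⟨r, hr, hrD⟩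
  · obtain ⟨-, h1, h2⟩ := ab_b H hzb hab
    exact ⟨h1, h2, Or.inl hab⟩
  · -- a prime power group
    have hrp : r = p := by
      by_contra hne
      obtain ⟨l, hl⟩ := hrD ⟨z, mem_cen.2 rfl⟩
      have hl' : z ^ r ^ l = 1 := by simpa using congrArg Subtype.val hl
      obtain ⟨l2, hl2⟩ := P.isPGroup' ⟨z, hzP⟩
      have hl2' : z ^ p ^ l2 = 1 := by simpa using congrArg Subtype.val hl2
      exact hz1 (eq_one_of_pelem hr hp hne hl' hl2')
    subst hrp
    obtain ⟨d, hd⟩ := IsPGroup.iff_card.1 hrD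
    have hco := cop_C H hs hf hfs hsa hfb hx
    have h1 := card_mul x
    have h2 := card_mul z
    rw [hx] at h1
    rw [hzb, hd, ← h1] at h2
    have hadvd : a ∣ r ^ d := by
      have : a ∣ b * r ^ d := ⟨_, h2⟩
      exact Nat.Coprime.dvd_of_dvd_mul_left H.cop this
    have hdvda : r ^ d ∣ a := by
      have h3 : r ^ d ∣ a * Nat.card (centralizer ({x} : Set G)) := ⟨b, by rw [← h2]; ring⟩
      have hco2 : (r ^ d).Coprime (Nat.card (centralizer ({x} : Set G))) := by
        apply Nat.Coprime.pow_left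
        rw [Nat.Prime.coprime_iff_not_dvd hr]
        intro h4
        have := Nat.dvd_gcd h4 hpa
        rw [hco] at this
        exact hr.one_lt.ne' (Nat.dvd_one.1 this)
      exact Nat.Coprime.dvd_of_dvd_mul_right hco2 h3
    have hae : r ^ d = a := Nat.dvd_antisymm hdvda hadvd
    refine ⟨?_, by rw [hd, hae], Or.inr ⟨r, hr, hpa, hrD⟩⟩
    have h5 := card_mul z
    rw [hzb, hd, hae] at h5
    rw [← h5, mul_comm]

/-- Conjugacy of centralisers of elements of size `b`. -/
theorem hconj_C2 {z : G} (hzb : cs z = b) (hG : Nat.card G = a * b)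
    (hD : Nat.card (centralizer ({z} : Set G)) = a)
    (hstr : Ab (centralizer ({z} : Set G)) ∨
      ∃ p : ℕ, p.Prime ∧ p ∣ a ∧ IsPGroup p (centralizer ({z} : Set G))) (w : G) (hw1 : w ≠ 1)
    (hw : cs w = cs z) : ∃ g₀ : G, centralizer ({g₀ * w * g₀⁻¹} : Set G) = centralizer ({z} : Set G) := by
  classical
  have hwb : cs w = b := hw.trans hzb
  have hCw : Nat.card (centralizer ({w} : Set G)) = a := (card_eq_of_cs_eq hw).trans hD
  rcases hstr with hab | ⟨p, hp, hpa, hpD⟩
  · obtain ⟨hT, -, -⟩ := ab_b H hzb hab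
    obtain ⟨ℓ, k, hℓ, hℓk⟩ := exists_prime_order_pow hw1
    have hℓC : ℓ ∣ a := by
      rw [← hCw, ← hℓk]
      have h2 : w ^ k ∈ centralizer ({w} : Set G) := pow_mem (mem_cen.2 rfl) k
      have h3 : orderOf (⟨w ^ k, h2⟩ : centralizer ({w} : Set G)) = orderOf (w ^ k) :=
        Subgroup.orderOf_mk _ _
      rw [← h3]
      exact orderOf_dvd_natCard _
    have hℓb : ¬ ℓ ∣ (centralizer ({z} : Set G)).index := by
      change ¬ ℓ ∣ cs z
      rw [hzb]
      intro h
      have := Nat.dvd_gcd hℓC h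
      rw [H.cop] at this
      exact hℓ.one_lt.ne' (Nat.dvd_one.1 this)
    obtain ⟨l, hl⟩ := exists_conj_mem_of_not_dvd_index _ hℓ hℓk hℓb
    have hs1 : l⁻¹ * w ^ k * l ≠ 1 := by
      intro h
      have h3 : w ^ k = l * (l⁻¹ * w ^ k * l) * l⁻¹ := by group
      rw [h, mul_one, mul_inv_cancel] at h3
      rw [h3, orderOf_one] at hℓk
      exact hℓ.one_lt.ne hℓk
    have hw' : l⁻¹ * w * l ∈ centralizer ({z} : Set G) := by
      rw [← hT _ hl hs1, mem_cen]
      have e1 : l⁻¹ * w * l * (l⁻¹ * w ^ k * l) = l⁻¹ * (w * w ^ k) * l := by group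
      have e2 : l⁻¹ * w ^ k * l * (l⁻¹ * w * l) = l⁻¹ * (w ^ k * w) * l := by group
      rw [e1, e2, (Commute.self_pow w k).eq]
    have hw'1 : l⁻¹ * w * l ≠ 1 := by
      intro h
      apply hw1
      have h3 : w = l * (l⁻¹ * w * l) * l⁻¹ := by group
      rw [h, mul_one, mul_inv_cancel] at h3
      exact h3
    refine ⟨l⁻¹, ?_⟩
    rw [inv_inv]
    exact hT _ hw' hw'1
  · -- Sylow subgroups
    haveI : Fact p.Prime := ⟨hp⟩
    have hcop : ∀ m : ℕ, p ^ m ∣ Nat.card G → p ^ m ∣ a := by
      intro m hm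
      rw [hG] at hm
      have hco2 : (p ^ m).Coprime b := by
        apply Nat.Coprime.pow_left
        rw [Nat.Prime.coprime_iff_not_dvd hp]
        intro h4
        have := Nat.dvd_gcd hpa h4
        rw [H.cop] at this
        exact hp.one_lt.ne' (Nat.dvd_one.1 this)
      exact Nat.Coprime.dvd_of_dvd_mul_right hco2 hm
    have hsyl : ∀ L : Subgroup G, IsPGroup p L → Nat.card L = a → ∃ S : Sylow p G, (S : Subgroup G) = L := by
      intro L hL hLa
      obtain ⟨S, hS⟩ := hL.exists_le_sylow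
      refine ⟨S, ?_⟩
      symm
      apply Subgroup.eq_of_le_of_card_ge hS
      obtain ⟨m, hm⟩ := IsPGroup.iff_card.1 S.isPGroup'
      have h1 : p ^ m ∣ a := hcop m (hm ▸ Subgroup.card_subgroup_dvd_card _)
      rw [hLa, hm]
      exact Nat.le_of_dvd (by have := one_lt_a H.toHyp; omega) h1
    have hpw : IsPGroup p (centralizer ({w} : Set G)) := by
      obtain ⟨d, hd⟩ := IsPGroup.iff_card.1 hpD
      exact IsPGroup.of_card (hCw.trans (hD.symm.trans hd))
    obtain ⟨S₁, hS₁⟩ := hsyl _ hpD hD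
    obtain ⟨S₂, hS₂⟩ := hsyl _ hpw hCw
    obtain ⟨g, hg⟩ := MulAction.exists_smul_eq G S₂ S₁
    refine ⟨g, ?_⟩
    rw [← hS₁, ← hg]
    ext h
    rw [mem_smul_sylow', hS₂, mem_cen, mem_cen]
    constructor
    · intro e
      have e2 : g * ((g⁻¹ * h * g) * w) * g⁻¹ = g * (w * (g⁻¹ * h * g)) * g⁻¹ := by
        calc g * ((g⁻¹ * h * g) * w) * g⁻¹ = h * (g * w * g⁻¹) := by group
          _ = g * w * g⁻¹ * h := e
          _ = _ := by group
      exact mul_left_cancel (mul_right_cancel e2)
    · intro e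
      calc h * (g * w * g⁻¹) = g * ((g⁻¹ * h * g) * w) * g⁻¹ := by group
        _ = g * (w * (g⁻¹ * h * g)) * g⁻¹ := by rw [e]
        _ = g * w * g⁻¹ * h := by group

/-- The upper bound on the number of elements of size `b`. -/
theorem upper_K [Fintype G] {z : G} (hzb : cs z = b) (hG : Nat.card G = a * b)
    (hD : Nat.card (centralizer ({z} : Set G)) = a)
    (hstr : Ab (centralizer ({z} : Set G)) ∨
      ∃ p : ℕ, p.Prime ∧ p ∣ a ∧ IsPGroup p (centralizer ({z} : Set G)))
    (hN : Ab (centralizer ({z} : Set G)) →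
      ¬ normalizer ((centralizer ({z} : Set G) : Subgroup G) : Set G) ≤ centralizer ({z} : Set G)) :
    2 * (Ps z).card < Nat.card G := by
  classical
  have hz1 := ne_one_of_b H hzb
  have hcnt := count_Ps' hz1 (fun w hw1 hw => hconj_C2 H hzb hG hD hstr w hw1 hw)
  have hZs := Zs_card_lt_center' (G := G) z
  have ha1 := one_lt_a H.toHyp
  have hGpos : 0 < Nat.card G := Nat.card_pos
  set N : Subgroup G := normalizer ((centralizer ({z} : Set G) : Subgroup G) : Set G) with hNdef
  have hDN : centralizer ({z} : Set G) ≤ N := Subgroup.le_normalizer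
  by_cases hab : Ab (centralizer ({z} : Set G))
  · -- abelian, normaliser bigger
    have hne := hN hab
    obtain ⟨t, ht⟩ := Subgroup.card_dvd_of_le hDN
    rw [hD] at ht
    have ht2 : 2 ≤ t := by
      by_contra h2
      have ht0 : t ≠ 0 := by
        rintro rfl
        have h9 : 0 < Nat.card N := Nat.card_pos
        rw [mul_zero] at ht
        omega
      have : t = 1 := by omega
      subst this
      apply hne
      rw [← Subgroup.eq_of_le_of_card_ge hDN (by rw [ht, hD, mul_one])]
    have h2a : a * 2 ≤ Nat.card N := by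
      rw [ht]
      exact Nat.mul_le_mul_left a ht2
    have hZle : Nat.card (center (centralizer ({z} : Set G))) ≤ a := by
      rw [← hD]
      exact Subgroup.card_le_card_group _
    have hZs2 : (Zs z).card ≤ a - 1 := by omega
    have h3 : a * 2 * (Ps z).card ≤ Nat.card G * (a - 1) :=
      (Nat.mul_le_mul_right _ h2a).trans (hcnt.trans (Nat.mul_le_mul_left _ hZs2))
    by_contra hcon
    push Not at hcon
    have h4 : a * Nat.card G ≤ a * (2 * (Ps z).card) := Nat.mul_le_mul_left a hcon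
    have h5 : Nat.card G * (a - 1) < Nat.card G * a := Nat.mul_lt_mul_of_pos_left (by omega) hGpos
    nlinarith
  · -- a nonabelian `p`-group
    rcases hstr with h | ⟨p, hp, hpa, hpD⟩
    · exact absurd h hab
    have hZne : center (centralizer ({z} : Set G)) ≠ ⊤ := by
      intro h
      apply hab
      intro c hc d hd
      have h1 : (⟨c, hc⟩ : centralizer ({z} : Set G)) ∈ center (centralizer ({z} : Set G)) := by
        rw [h]; trivial
      exact (congrArg Subtype.val (mem_center_iff.1 h1 ⟨d, hd⟩)).symm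
    have hZ2 : 2 * Nat.card (center (centralizer ({z} : Set G))) ≤ a := by
      have h0 := Subgroup.index_mul_card (center (centralizer ({z} : Set G)))
      rw [hD] at h0
      have hi : (center (centralizer ({z} : Set G))).index ≠ 1 := by
        rw [Ne, Subgroup.index_eq_one]
        exact hZne
      have hi0 : (center (centralizer ({z} : Set G))).index ≠ 0 := Subgroup.index_ne_zero_of_finite
      rw [← h0]
      exact Nat.mul_le_mul_right _ (by omega)
    have haN : a ≤ Nat.card N := by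
      rw [← hD]
      exact Subgroup.card_le_of_le hDN
    have h3 : a * (Ps z).card ≤ Nat.card G * (Zs z).card :=
      (Nat.mul_le_mul_right _ haN).trans hcnt
    by_contra hcon
    push Not at hcon
    have h4 : a * Nat.card G ≤ a * (2 * (Ps z).card) := Nat.mul_le_mul_left a hcon
    have h5 : 2 * (Zs z).card + 2 ≤ a := by omega
    have h6 : Nat.card G * (2 * (Zs z).card + 2) ≤ Nat.card G * a := Nat.mul_le_mul_left _ h5
    nlinarith

/-- The lower bound on the number of elements of size `b`. -/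
theorem lower_K [Fintype G] {z : G} (hzb : cs z = b) {r : ℕ} [hr : Fact r.Prime] (R : Sylow r G)
    (hra : ¬ r ∣ a) (hre : ¬ r ∣ e)
    (hR : ¬ normalizer ((R : Subgroup G) : Set G) ≤ centralizer ((R : Subgroup G) : Set G)) :
    Nat.card G ≤ 2 * (Ps z).card := by
  classical
  let Hc : Subgroup G := centralizer ((R : Subgroup G) : Set G)
  let N : Subgroup G := normalizer ((R : Subgroup G) : Set G)
  let X : Finset G := (Finset.univ.filter (fun g : G => g ≠ 1 ∧ cs g ≠ b))
  have hX1 : (1 : G) ∉ X := by simp [X]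
  have hXconj : ∀ s ∈ X, ∃ g : G, g * s * g⁻¹ ∈ Hc := by
    intro s hs
    have hs' := (Finset.mem_filter.1 hs).2
    apply exists_sylow_cen' R
    rcases H.sz s hs'.1 with h | h | h
    · rw [h]; exact hra
    · exact absurd h hs'.2
    · rw [h]; exact hre
  have hNact : ∀ n ∈ N, ∀ c ∈ Hc, n⁻¹ * c * n ∈ Hc := by
    intro n hn c hc
    rw [mem_centralizer_iff]
    intro h hh
    have h1 : n * h * n⁻¹ ∈ (R : Subgroup G) := (mem_normalizer_iff.1 hn h).1 hh
    have h2 := (mem_centralizer_iff.1 hc) _ h1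
    have h3 : h * (n⁻¹ * c * n) = n⁻¹ * ((n * h * n⁻¹) * c) * n := by group
    have h4 : n⁻¹ * c * n * h = n⁻¹ * (c * (n * h * n⁻¹)) * n := by group
    rw [h3, h4, h2]
  have hcnt := count_union Hc N hNact X hX1 hXconj
  have hHN : Hc ≤ N := Subgroup.centralizer_le_normalizer _
  have hHne : Hc ≠ N := by
    intro h
    exact hR h.ge
  obtain ⟨t, ht⟩ := Subgroup.card_dvd_of_le hHN
  have hHpos : 0 < Nat.card Hc := Nat.card_pos
  have ht2 : 2 ≤ t := by
    by_contra h2
    have ht0 : t ≠ 0 := by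
      rintro rfl
      have h9 : 0 < Nat.card N := Nat.card_pos
      rw [mul_zero] at ht
      omega
    have : t = 1 := by omega
    subst this
    apply hHne
    exact Subgroup.eq_of_le_of_card_ge hHN (by rw [ht, mul_one])
  have h2H : Nat.card Hc * 2 ≤ Nat.card N := by
    rw [ht]
    exact Nat.mul_le_mul_left _ ht2
  have hNG : Nat.card N ≤ Nat.card G := Subgroup.card_le_card_group N
  have hb1 : 2 * X.card + 2 ≤ Nat.card G := by
    have h3 : Nat.card Hc * 2 * X.card ≤ Nat.card G * (Nat.card Hc - 1) :=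
      (Nat.mul_le_mul_right _ h2H).trans hcnt
    have h4 : Nat.card G * (Nat.card Hc - 1) + Nat.card G = Nat.card G * Nat.card Hc := by
      have : Nat.card Hc = (Nat.card Hc - 1) + 1 := by omega
      conv_rhs => rw [this]
      ring
    have h5 : Nat.card Hc * (2 * X.card + 2) ≤ Nat.card Hc * Nat.card G := by
      have h6 : Nat.card Hc * 2 ≤ Nat.card G := h2H.trans hNG
      nlinarith
    exact Nat.le_of_mul_le_mul_left h5 hHpos
  -- the partition
  have hcover : (Finset.univ : Finset G) ⊆ insert 1 (X ∪ Ps z) := by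
    intro g _
    by_cases hg : g = 1
    · simp [hg]
    · rw [Finset.mem_insert, Finset.mem_union]
      right
      by_cases hgb : cs g = b
      · exact Or.inr (mem_Ps.2 ⟨hg, hgb.trans hzb.symm⟩)
      · exact Or.inl (Finset.mem_filter.2 ⟨Finset.mem_univ _, hg, hgb⟩)
  have h1 := Finset.card_le_card hcover
  have h2 := Finset.card_insert_le 1 (X ∪ Ps z)
  have h3 := Finset.card_union_le X (Ps z)
  rw [Finset.card_univ, ← Nat.card_eq_fintype_card] at h1
  omega

/-- The last case. -/
theorem case_C2 {s n : ℕ} (hs : s.Prime) (hf : e = a * f) (hfs : f = s ^ n) (hsa : ¬ s ∣ a)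
    (hfb : f ≠ b) (hbf : ¬ b ∣ f) : Group.IsSolvable G := by
  classical
  letI : Fintype G := Fintype.ofFinite G
  haveI : Fact s.Prime := ⟨hs⟩
  obtain ⟨z, hzb, hG, hD, hstr⟩ := struct_C2 H hs hf hfs hsa hfb hbf
  have hb1 := one_lt_b H.toHyp
  have ha1 := one_lt_a H.toHyp
  have hprim : ∀ r : ℕ, r.Prime → r ∣ b → r ≠ s → ¬ r ∣ a ∧ ¬ r ∣ e := by
    intro r hr hrb hrs
    have hra : ¬ r ∣ a := by
      intro h
      have := Nat.dvd_gcd h hrb
      rw [H.cop] at this
      exact hr.one_lt.ne' (Nat.dvd_one.1 this)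
    refine ⟨hra, ?_⟩
    rw [hf]
    intro h
    rcases (Nat.Prime.dvd_mul hr).1 h with h | h
    · exact hra h
    · rw [hfs] at h
      exact hrs ((Nat.prime_dvd_prime_iff_eq hr hs).1 (hr.dvd_of_dvd_pow h))
  by_cases hbad : ∃ r : ℕ, r.Prime ∧ r ∣ b ∧ r ≠ s ∧ ∃ (_ : Fact r.Prime) (R : Sylow r G),
      ¬ normalizer ((R : Subgroup G) : Set G) ≤ centralizer ((R : Subgroup G) : Set G)
  · -- the count applies
    obtain ⟨r, hr, hrb, hrs, hrf, R, hR⟩ := hbad
    obtain ⟨hra, hre⟩ := hprim r hr hrb hrs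
    have hlow := lower_K H hzb R hra hre hR
    have hab : Ab (centralizer ({z} : Set G)) ∧
        normalizer ((centralizer ({z} : Set G) : Subgroup G) : Set G) ≤ centralizer ({z} : Set G) := by
      by_contra hcon
      push Not at hcon
      have hup := upper_K H hzb hG hD hstr (fun h1 h2 => by
        obtain ⟨g, hg, hg2⟩ := SetLike.not_le_iff_exists.1 (hcon h1)
        exact hg2 (h2 hg))
      omega
    obtain ⟨hT, -, -⟩ := ab_b H hzb hab.1
    have hne : centralizer ({z} : Set G) ≠ ⊥ := by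
      intro h
      have : z ∈ centralizer ({z} : Set G) := mem_cen.2 rfl
      rw [h, Subgroup.mem_bot] at this
      exact ne_one_of_b H hzb this
    exact BT hT hne hab.2
  · -- transfer
    push Not at hbad
    let T : Finset ℕ := b.primeFactors.erase s
    have hTmem : ∀ r ∈ T, r.Prime ∧ r ∣ b ∧ r ≠ s := by
      intro r hr
      obtain ⟨h1, h2⟩ := Finset.mem_erase.1 hr
      exact ⟨Nat.prime_of_mem_primeFactors h2, Nat.dvd_of_mem_primeFactors h2, h1⟩
    obtain ⟨M, hMn, hMc, hMd, hMo⟩ := exists_M (G := G) T (by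
      intro r hr
      obtain ⟨h1, h2, h3⟩ := hTmem r hr
      haveI hf' : Fact r.Prime := ⟨h1⟩
      obtain ⟨R⟩ : Nonempty (Sylow r G) := inferInstance
      exact ⟨hf', R, hbad r h1 h2 h3 hf' R⟩)
    haveI := hMn
    obtain ⟨S⟩ : Nonempty (Sylow s G) := inferInstance
    -- `D` and `S` lie in `M`
    have hDM : centralizer ({z} : Set G) ≤ M := by
      intro g hg
      apply hMo
      intro r hr hrg
      obtain ⟨h1, h2, h3⟩ := hTmem r hr
      have h4 : orderOf g ∣ a := by
        rw [← hD]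
        have h5 : orderOf (⟨g, hg⟩ : centralizer ({z} : Set G)) = orderOf g := Subgroup.orderOf_mk _ _
        rw [← h5]
        exact orderOf_dvd_natCard _
      exact (hprim r h1 h2 h3).1 (hrg.trans h4)
    have hSM : (S : Subgroup G) ≤ M := by
      intro g hg
      apply hMo
      intro r hr hrg
      obtain ⟨h1, h2, h3⟩ := hTmem r hr
      obtain ⟨k, hk⟩ := S.isPGroup' ⟨g, hg⟩
      have hk' : g ^ s ^ k = 1 := by simpa using congrArg Subtype.val hk
      have h4 := hrg.trans (orderOf_dvd_of_pow_eq_one hk')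
      exact h3 ((Nat.prime_dvd_prime_iff_eq h1 hs).1 (h1.dvd_of_dvd_pow h4))
    -- the orders
    obtain ⟨d, hd⟩ := IsPGroup.iff_card.1 S.isPGroup'
    have hcopaS : a.Coprime (Nat.card (S : Subgroup G)) := by
      rw [hd]
      exact Nat.Coprime.pow_right d ((Nat.Prime.coprime_iff_not_dvd hs).2 hsa).symm
    have h1 : a * Nat.card (S : Subgroup G) ∣ Nat.card M :=
      Nat.Coprime.mul_dvd_of_dvd_of_dvd hcopaS (hD ▸ Subgroup.card_dvd_of_le hDM)
        (Subgroup.card_dvd_of_le hSM)
    obtain ⟨i, b', hb', hbi⟩ := Nat.exists_eq_pow_mul_and_not_dvd (show b ≠ 0 by omega) s hs.ne_one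
    have h2 : Nat.card M ∣ a * s ^ i := by
      have h3 : Nat.card M ∣ (a * s ^ i) * b' := by
        have := Subgroup.card_subgroup_dvd_card M
        rw [hG, hbi] at this
        rwa [mul_assoc]
      have hco : (Nat.card M).Coprime b' := by
        rw [Nat.coprime_iff_gcd_eq_one] 
        by_contra hne
        obtain ⟨r, hr, hrd⟩ := Nat.exists_prime_and_dvd hne
        have hrM := hrd.trans (Nat.gcd_dvd_left _ _)
        have hrb' := hrd.trans (Nat.gcd_dvd_right _ _)
        have hrs : r ≠ s := by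
          rintro rfl
          exact hb' hrb'
        have hrb : r ∣ b := by
          rw [hbi]
          exact Dvd.dvd.mul_left hrb' _
        exact hMd r (Finset.mem_erase.2 ⟨hrs, Nat.mem_primeFactors.2 ⟨hr, hrb, by omega⟩⟩) hrM
      exact Nat.Coprime.dvd_of_dvd_mul_right hco h3
    have h3 : s ^ i ≤ Nat.card (S : Subgroup G) := by
      rw [S.card_eq_multiplicity]
      apply Nat.pow_le_pow_right hs.pos
      rw [← hs.pow_dvd_iff_le_factorization Nat.card_pos.ne', hG, hbi]
      exact ⟨a * b', by ring⟩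
    have hMcard : Nat.card M = a * Nat.card (S : Subgroup G) := by
      apply Nat.dvd_antisymm ?_ h1
      have h4 : s ^ i ∣ Nat.card (S : Subgroup G) := by
        rw [hd]
        rw [hd] at h3
        exact pow_dvd_pow s ((Nat.pow_le_pow_iff_right hs.one_lt).1 h3)
      exact h2.trans (Nat.mul_dvd_mul_left a h4)
    -- the factorisation of `M`
    let D' : Subgroup M := (centralizer ({z} : Set G)).subgroupOf M
    let S' : Subgroup M := (S : Subgroup G).subgroupOf M
    have hD' : Nat.card D' = a := by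
      rw [← hD]
      exact Nat.card_congr (Subgroup.subgroupOfEquivOfLe hDM).toEquiv
    have hS' : Nat.card S' = Nat.card (S : Subgroup G) :=
      Nat.card_congr (Subgroup.subgroupOfEquivOfLe hSM).toEquiv
    have hcompl : IsComplement' D' S' :=
      Subgroup.isComplement'_of_coprime (by rw [hD', hS', hMcard]) (by rw [hD', hS']; exact hcopaS)
    have hDnil : Group.IsNilpotent (centralizer ({z} : Set G)) := by
      rcases hstr with h | ⟨p, hp, hpa, hpD⟩
      · letI : CommGroup (centralizer ({z} : Set G)) := { (inferInstance : Group (centralizer ({z} : Set G))) with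
          mul_comm := fun a b => Subtype.ext (h a a.2 b b.2) }
        infer_instance
      · haveI : Fact p.Prime := ⟨hp⟩
        exact hpD.isNilpotent
    have hD'nil : Group.IsNilpotent D' :=
      Group.nilpotent_of_surjective (Subgroup.subgroupOfEquivOfLe hDM).symm.toMonoidHom
        (Subgroup.subgroupOfEquivOfLe hDM).symm.surjective
    have hSnil : Group.IsNilpotent (S : Subgroup G) := S.isPGroup'.isNilpotent
    have hS'nil : Group.IsNilpotent S' :=
      Group.nilpotent_of_surjective (Subgroup.subgroupOfEquivOfLe hSM).symm.toMonoidHom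
        (Subgroup.subgroupOfEquivOfLe hSM).symm.surjective
    have hMsol : Group.IsSolvable M := by
      apply Cfsg.Agent.S0564.result D' S' hD'nil hS'nil
      intro g
      obtain ⟨⟨x, y⟩, hxy⟩ := hcompl.2 g
      exact ⟨x, x.2, y, y.2, hxy.symm⟩
    have hQsol : Group.IsSolvable (G ⧸ M) := by
      apply Group.isSolvable_of_comm
      intro x y
      obtain ⟨x, rfl⟩ := QuotientGroup.mk_surjective x
      obtain ⟨y, rfl⟩ := QuotientGroup.mk_surjective y
      have h4 := hMc x y
      have h5 : ((⁅x, y⁆ : G) : G ⧸ M) = 1 := (QuotientGroup.eq_one_iff _).2 h4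
      rw [commutatorElement_def] at h5
      have h6 : (x : G ⧸ M) * (y : G ⧸ M) * (x : G ⧸ M)⁻¹ * (y : G ⧸ M)⁻¹ = 1 := h5
      have h7 := mul_inv_eq_one.1 h6
      exact mul_inv_eq_iff_eq_mul.1 h7
    exact Group.isSolvable_of_ker_le_range M.subtype (QuotientGroup.mk' M) (by
      rw [QuotientGroup.ker_mk', Subgroup.range_subtype])

omit H in
/-- **The case of nested centralisers.** -/
theorem chain_main (H : Hy G a b e) : Group.IsSolvable G := by
  obtain ⟨f, hf⟩ := H.dvd
  obtain ⟨s, n, hs, hfs⟩ := prime_power_f H hf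
  by_cases hfb : f = b
  · subst hfb
    exact case_fb H hf
  by_cases hsa : s ∣ a
  · exact case_B H hs hf hfs hsa hfb
  by_cases hbf : b ∣ f
  · exact case_C1 H hs hf hfs hsa hfb hbf
  · exact case_C2 H hs hf hfs hsa hfb hbf

end Cfsg.Agent.Lib.ThreeCl.Cases
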