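import Cfsg.Agent.Lib.ThreeCl.BT
import Cfsg.Agent.S4064

/-!
# Three class sizes with pairwise non-nested centralisers, without simplicity
-/

set_option autoImplicit false
set_option linter.style.haveILetI false
set_option linter.unusedSectionVars false
set_option linter.unusedVariables false

namespace Cfsg.Agent.Lib.ThreeCl.NCG

open Subgroup Cfsg
open Cfsg.Agent.Lib.ClassGraph.Basic Cfsg.Agent.Lib.ClassGraph.Top Cfsg.Agent.Lib.ThreeCl
open Cfsg.Agent.Lib.Rank3.NoChain
open Cfsg.Agent.Lib.Rank3.Chain (mem_normalizer_of_conj_mem)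

universe u

variable {G : Type u} [Group G] [Finite G] (h : NC G)

include h

/-- Structure of a self-centralising centraliser. -/
theorem tp_struct' [Fintype G]
    (hB : ∀ x : G, x ≠ 1 → Tp (centralizer ({x} : Set G)) →
      ∃ g ∈ normalizer ((centralizer ({x} : Set G) : Subgroup G) : Set G), g ∉ centralizer ({x} : Set G))
    {x : G} (hx : x ≠ 1) (hT : Tp (centralizer ({x} : Set G))) :
    2 * (Zs x).card < Nat.card (normalizer ((centralizer ({x} : Set G) : Subgroup G) : Set G)) ∧
    (3 * (Zs x).card < Nat.card (normalizer ((centralizer ({x} : Set G) : Subgroup G) : Set G)) ∨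
      (2 ∣ Nat.card (normalizer ((centralizer ({x} : Set G) : Subgroup G) : Set G)) ∧
       ¬ 2 ∣ Nat.card (centralizer ({x} : Set G)))) := by
  classical
  set L : Subgroup G := centralizer ({x} : Set G) with hL
  set N : Subgroup G := normalizer (L : Set G) with hN
  obtain ⟨g, hgN, hgL⟩ := hB x hx hT
  have hZ : (Zs x).card + 1 ≤ Nat.card (center L) := Zs_card_lt_center h x
  have hZL : Nat.card (center L) ≤ Nat.card L := by
    have := Subgroup.card_le_card_group (center L)
    exact this
  have hLN : L ≤ N := Subgroup.le_normalizer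
  obtain ⟨t, ht⟩ := Subgroup.card_dvd_of_le hLN
  have hL0 : 0 < Nat.card L := Nat.card_pos
  have hN0 : 0 < Nat.card N := Nat.card_pos
  have ht0 : t ≠ 0 := by
    rintro rfl
    omega
  have ht1 : t ≠ 1 := by
    rintro rfl
    rw [mul_one] at ht
    have : L = N := Subgroup.eq_of_le_of_card_ge hLN (by omega)
    exact hgL (this.ge hgN)
  have hZ' : (Zs x).card < Nat.card L := by omega
  have ht2 : 2 ≤ t := by omega
  have hmul : 2 * Nat.card L ≤ Nat.card N := by
    rw [ht, mul_comm]
    exact Nat.mul_le_mul_left _ ht2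
  refine ⟨by omega, ?_⟩
  by_cases ht3 : 3 ≤ t
  · left
    have : 3 * Nat.card L ≤ Nat.card N := by
      rw [ht, mul_comm]
      exact Nat.mul_le_mul_left _ ht3
    omega
  · right
    have ht2' : t = 2 := by omega
    subst ht2'
    refine ⟨⟨_, by rw [ht, mul_comm]⟩, ?_⟩
    intro hd
    haveI : Fact (Nat.Prime 2) := ⟨Nat.prime_two⟩
    obtain ⟨S, hS⟩ := exists_sylow_le h hx hd
    have h1 : ¬ 2 ∣ L.index := fun h2 => S.not_dvd_index (h2.trans (Subgroup.index_dvd_of_le hS))
    apply h1
    have h2 := Subgroup.index_mul_card L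
    have h3 := Subgroup.index_mul_card N
    rw [ht] at h3
    have h4 : L.index * Nat.card L = (N.index * 2) * Nat.card L := by
      rw [h2, ← h3]
      ring
    have h5 := Nat.eq_of_mul_eq_mul_right hL0 h4
    exact ⟨N.index, by rw [h5]; ring⟩

/-- The contradiction. -/
theorem nonab_false'
    (hB : ∀ x : G, x ≠ 1 → Tp (centralizer ({x} : Set G)) →
      ∃ g ∈ normalizer ((centralizer ({x} : Set G) : Subgroup G) : Set G), g ∉ centralizer ({x} : Set G))
    {x y₂ y₃ : G} (hx : x ≠ 1) (hy₂ : y₂ ≠ 1) (hy₃ : y₃ ≠ 1)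
    (hsz : ∀ g : G, g ≠ 1 → cs g = cs x ∨ cs g = cs y₂ ∨ cs g = cs y₃)
    (hnc : ¬ IsMulCommutative (centralizer ({x} : Set G))) : False := by
  classical
  letI := Fintype.ofFinite G
  obtain ⟨h1, h18, hodd⟩ := nonab_struct h hx hnc
  have hP1 := bound_Ps h hx h1
  -- the cover
  have hcover : Nat.card G - 1 ≤ (Ps x).card + ((Ps y₂).card + (Ps y₃).card) := by
    have hsub : (Finset.univ : Finset G).erase 1 ⊆ Ps x ∪ (Ps y₂ ∪ Ps y₃) := by
      intro g hg
      have hg1 : g ≠ 1 := (Finset.mem_erase.1 hg).1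
      rw [Finset.mem_union, Finset.mem_union, mem_Ps, mem_Ps, mem_Ps]
      rcases hsz g hg1 with h2 | h2 | h2
      · exact Or.inl ⟨hg1, h2⟩
      · exact Or.inr (Or.inl ⟨hg1, h2⟩)
      · exact Or.inr (Or.inr ⟨hg1, h2⟩)
    have h2 := Finset.card_le_card hsub
    rw [Finset.card_erase_of_mem (Finset.mem_univ _), Finset.card_univ, ← Nat.card_eq_fintype_card] at h2
    have h3 := Finset.card_union_le (Ps x) (Ps y₂ ∪ Ps y₃)
    have h4 := Finset.card_union_le (Ps y₂) (Ps y₃)
    omega
  -- a statement for each of the two others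
  have key : ∀ y : G, y ≠ 1 → 2 * (Ps y).card < Nat.card G ∧
      (3 * (Ps y).card < Nat.card G ∨
        (2 ∣ Nat.card (normalizer ((centralizer ({y} : Set G) : Subgroup G) : Set G)) ∧
          ¬ 2 ∣ Nat.card (centralizer ({y} : Set G)))) := by
    intro y hy
    by_cases hc : IsMulCommutative (centralizer ({y} : Set G))
    · have hT : Tp (centralizer ({y} : Set G)) := by
        intro v hv hv1
        refine (h.nest v y hv1 hy ?_).symm
        intro g hg
        rw [mem_cen]
        have := hc.is_comm.comm ⟨g, hg⟩ ⟨v, hv⟩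
        exact congrArg Subtype.val this
      obtain ⟨h2, h3⟩ := tp_struct' h hB hy hT
      refine ⟨bound_Ps h hy h2, ?_⟩
      rcases h3 with h3 | h3
      · exact Or.inl (bound_Ps h hy h3)
      · exact Or.inr h3
    · obtain ⟨h2, -, -⟩ := nonab_struct h hy hc
      have hZ1 : 0 < (Zs y).card := Finset.card_pos.2 ⟨y, mem_Zs.2 ⟨hy, rfl⟩⟩
      have h3 : 3 * (Ps y).card < Nat.card G := bound_Ps h hy (c := 3) (by omega)
      exact ⟨by omega, Or.inl h3⟩
  obtain ⟨h2a, h2b⟩ := key y₂ hy₂
  obtain ⟨h3a, h3b⟩ := key y₃ hy₃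
  rcases h2b with h2b | h2b
  · omega
  rcases h3b with h3b | h3b
  · omega
  -- both have odd order and even normalisers
  have h2G : 2 ∣ Nat.card G := h2b.1.trans (Subgroup.card_subgroup_dvd_card _)
  haveI : Fact (Nat.Prime 2) := ⟨Nat.prime_two⟩
  obtain ⟨t, ht⟩ := exists_prime_orderOf_dvd_card' (G := G) 2 h2G
  have ht1 : t ≠ 1 := ne_one_of_order Nat.prime_two ht
  have h2t : 2 ∣ Nat.card (centralizer ({t} : Set G)) := by
    rw [← ht]
    exact orderOf_dvd_card_cen' t
  have hcardeq : ∀ y : G, cs t = cs y →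
      Nat.card (centralizer ({t} : Set G)) = Nat.card (centralizer ({y} : Set G)) := by
    intro y hty
    have e1 := Subgroup.index_mul_card (centralizer ({t} : Set G))
    have e2 := Subgroup.index_mul_card (centralizer ({y} : Set G))
    have hpos : 0 < cs t := Nat.pos_of_ne_zero Subgroup.index_ne_zero_of_finite
    apply Nat.eq_of_mul_eq_mul_left hpos
    change cs t * _ = _ at e1
    change cs y * _ = _ at e2
    rw [e1, hty, e2]
  rcases hsz t ht1 with h5 | h5 | h5
  · exact hodd (hcardeq x h5 ▸ h2t)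
  · exact h2b.2 (hcardeq y₂ h5 ▸ h2t)
  · exact h3b.2 (hcardeq y₃ h5 ▸ h2t)

/-- All centralisers are abelian. -/
theorem all_comm'
    (hB : ∀ x : G, x ≠ 1 → Tp (centralizer ({x} : Set G)) →
      ∃ g ∈ normalizer ((centralizer ({x} : Set G) : Subgroup G) : Set G), g ∉ centralizer ({x} : Set G))
    {y₁ y₂ y₃ : G} (hy₁ : y₁ ≠ 1) (hy₂ : y₂ ≠ 1) (hy₃ : y₃ ≠ 1)
    (hsz : ∀ g : G, g ≠ 1 → cs g = cs y₁ ∨ cs g = cs y₂ ∨ cs g = cs y₃) {x : G} (hx : x ≠ 1) :
    IsMulCommutative (centralizer ({x} : Set G)) := by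
  by_contra hnc
  rcases hsz x hx with h1 | h1 | h1
  · refine nonab_false' h hB hx hy₂ hy₃ (fun g hg => ?_) hnc
    rw [h1]
    exact hsz g hg
  · refine nonab_false' h hB hx hy₁ hy₃ (fun g hg => ?_) hnc
    rw [h1]
    rcases hsz g hg with h2 | h2 | h2
    · exact Or.inr (Or.inl h2)
    · exact Or.inl h2
    · exact Or.inr (Or.inr h2)
  · refine nonab_false' h hB hx hy₁ hy₂ (fun g hg => ?_) hnc
    rw [h1]
    rcases hsz g hg with h2 | h2 | h2
    · exact Or.inr (Or.inl h2)
    · exact Or.inr (Or.inr h2)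
    · exact Or.inl h2

/-- **The non-nested case without simplicity.** -/
theorem main_nc {y₁ y₂ y₃ : G} (hy₁ : y₁ ≠ 1) (hy₂ : y₂ ≠ 1) (hy₃ : y₃ ≠ 1)
    (hsz : ∀ g : G, g ≠ 1 → cs g = cs y₁ ∨ cs g = cs y₂ ∨ cs g = cs y₃) :
    Group.IsSolvable G ∨
      ∃ n : ℕ, 0 < n ∧ Nonempty (G ≃* Matrix.ProjectiveSpecialLinearGroup (Fin 2) (GaloisField 2 n)) := by
  classical
  by_cases hB : ∃ x : G, x ≠ 1 ∧ Tp (centralizer ({x} : Set G)) ∧
      normalizer ((centralizer ({x} : Set G) : Subgroup G) : Set G) ≤ centralizer ({x} : Set G)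
  · left
    obtain ⟨x, hx, hT, hN⟩ := hB
    have hne : centralizer ({x} : Set G) ≠ ⊥ := by
      intro h1
      have : x ∈ centralizer ({x} : Set G) := mem_cen.2 rfl
      rw [h1, Subgroup.mem_bot] at this
      exact hx this
    exact BT.BT hT hne hN
  push Not at hB
  have hB' : ∀ x : G, x ≠ 1 → Tp (centralizer ({x} : Set G)) →
      ∃ g ∈ normalizer ((centralizer ({x} : Set G) : Subgroup G) : Set G), g ∉ centralizer ({x} : Set G) := by
    intro x hx hT
    exact SetLike.not_le_iff_exists.1 (hB x hx hT)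
  have hTI : ∀ x : G, Cfsg.IsTISubset (centralizer ({x} : Set G) : Set G) := by
    intro x g hg a ha hga
    by_contra ha1
    by_cases hx : x = 1
    · subst hx
      apply hg
      rw [mem_normalizer_iff]
      intro k
      have h1 : ∀ m : G, m ∈ ((centralizer ({(1 : G)} : Set G) : Subgroup G) : Set G) := by
        intro m
        change m ∈ centralizer ({(1 : G)} : Set G)
        rw [mem_cen]
        simp
      exact ⟨fun _ => h1 _, fun _ => h1 _⟩
    · have hc := all_comm' h hB' hy₁ hy₂ hy₃ hsz hx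
      have hT : Tp (centralizer ({x} : Set G)) := by
        intro v hv hv1
        refine (h.nest v x hv1 hx ?_).symm
        intro k hk
        rw [mem_cen]
        have := hc.is_comm.comm ⟨k, hk⟩ ⟨v, hv⟩
        exact congrArg Subtype.val this
      exact hg (mem_normalizer_of_conj_mem hT ha ha1 hga)
  rcases Cfsg.Agent.S4064.result hTI with h1 | ⟨H, hH, h2⟩ | ⟨n, hn, he⟩
  · exfalso
    haveI : Nontrivial G := ⟨⟨y₁, 1, hy₁⟩⟩
    exact Group.IsNilpotent.center_ne_bot G h.cen
  · left
    refine BT.solvable_of_frob hH ?_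
    rcases h2 with h2 | ⟨m, hm, ⟨e⟩⟩
    · apply Group.isSolvable_of_comm
      intro a b
      exact (IsCyclic.isMulCommutative (α := H)).is_comm.comm a b
    · have hQ : IsPGroup 2 (QuaternionGroup 2) := by
        apply IsPGroup.of_card (n := 3)
        rw [Nat.card_eq_fintype_card, QuaternionGroup.card]
        norm_num
      haveI : Fact (Nat.Prime 2) := ⟨Nat.prime_two⟩
      haveI : Group.IsNilpotent (QuaternionGroup 2) := hQ.isNilpotent
      haveI : Group.IsSolvable (QuaternionGroup 2) := inferInstance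
      haveI : Group.IsSolvable (Multiplicative (ZMod m)) := inferInstance
      haveI : Group.IsSolvable (Multiplicative (ZMod m) × QuaternionGroup 2) :=
        Group.isSolvable_of_ker_le_range (MonoidHom.inl (Multiplicative (ZMod m)) (QuaternionGroup 2))
          (MonoidHom.snd (Multiplicative (ZMod m)) (QuaternionGroup 2)) (by
            rintro ⟨a, b⟩ hab
            have hb : b = 1 := hab
            exact ⟨a, by simp [hb]⟩)
      exact solvable_of_surjective (f := e.symm.toMonoidHom) e.symm.surjective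
  · exact Or.inr ⟨n, by omega, he⟩

end Cfsg.Agent.Lib.ThreeCl.NCG
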