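import Cfsg.Agent.Lib.ThreeCl.ThmF
import Cfsg.Agent.S4135
import Cfsg.Agent.Lib.Rank3.NoChain1

/-!
# The quotient of two class sizes is a prime power
-/

set_option autoImplicit false
set_option linter.style.haveILetI false
set_option linter.unusedSectionVars false
set_option linter.unusedVariables false

namespace Cfsg.Agent.Lib.ThreeCl.PP

open Subgroup Cfsg
open Cfsg.Agent.Lib.ClassGraph.Basic Cfsg.Agent.Lib.ClassGraph.Top Cfsg.Agent.Lib.ThreeCl
open scoped commutatorElement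

universe u

variable {K : Type*} [Group K]

/-- The hypothesis on class sizes. -/
def H1 (K : Type*) [Group K] (f : ℕ) : Prop :=
  ∀ y u : K, y ∉ center K → u ∈ center K → u ≠ 1 → (orderOf u).Coprime (orderOf y) → cs y = f

variable [Finite K] {f : ℕ}

theorem typeP (H : H1 K f) (hdvd : f ∣ Nat.card K) {s : ℕ} (hs : s.Prime)
    (hZ : IsPGroup s (center K)) (hZ1 : center K ≠ ⊥) : ∃ n, f = s ^ n := by
  have hf0 : f ≠ 0 := by
    rintro rfl
    exact Nat.card_pos.ne' (Nat.eq_zero_of_zero_dvd hdvd)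
  refine ⟨f.primeFactorsList.length, Nat.eq_prime_pow_of_unique_prime_dvd hf0 ?_⟩
  intro r hr hrf
  by_contra hne
  haveI : Fact r.Prime := ⟨hr⟩
  have hrK : r ∣ Nat.card K := hrf.trans hdvd
  obtain ⟨S⟩ : Nonempty (Sylow r K) := inferInstance
  obtain ⟨z, hzS, hz1, hSz⟩ := Cfsg.Agent.Lib.Rank3.NoChain.exists_center_sylow S (S.ne_bot_of_dvd_card hrK)
  obtain ⟨u, hu, hu1⟩ := (Subgroup.bot_or_exists_ne_one _).resolve_left hZ1
  obtain ⟨k, hk⟩ := hZ ⟨u, hu⟩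
  have hk' : u ^ s ^ k = 1 := by simpa using congrArg Subtype.val hk
  obtain ⟨j, hj⟩ := S.isPGroup' ⟨z, hzS⟩
  have hj' : z ^ r ^ j = 1 := by simpa using congrArg Subtype.val hj
  have hzZ : z ∉ center K := by
    intro hzc
    obtain ⟨l, hl⟩ := hZ ⟨z, hzc⟩
    have hl' : z ^ s ^ l = 1 := by simpa using congrArg Subtype.val hl
    exact hz1 (eq_one_of_pelem hr hs hne hj' hl')
  have h1 := H z u hzZ hu hu1 (pelem_coprime hs hr (Ne.symm hne) hk' hj')
  apply S.not_dvd_index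
  refine Dvd.dvd.trans ?_ (Subgroup.index_dvd_of_le hSz)
  change r ∣ cs z
  rw [h1]
  exact hrf

/-- `r` occurs in the central quotient. -/
def Sg (K : Type*) [Group K] (r : ℕ) : Prop := ∃ y : K, (∃ k : ℕ, y ^ r ^ k = 1) ∧ y ∉ center K

theorem exists_Sg (hZ2 : center K ≠ ⊤) : ∃ r, r.Prime ∧ Sg K r := by
  obtain ⟨g, hg⟩ : ∃ g : K, g ∉ center K := by
    by_contra hcon
    push Not at hcon
    exact hZ2 (eq_top_iff.2 fun z _ => hcon z)
  obtain ⟨r, k, j, hr, h1, h2⟩ := exists_primary_not_mem (center K) hg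
  exact ⟨r, hr, g ^ j, ⟨k, h1⟩, h2⟩

theorem Sg_of_dvd_index {r : ℕ} (hr : r.Prime) (h : r ∣ (center K).index) : Sg K r := by
  haveI : Fact r.Prime := ⟨hr⟩
  exact exists_pelem_not_mem (center K) h

/-- Coprime primary elements commute in a nilpotent group. -/
theorem nil_comm [Group.IsNilpotent K] {x y : K} {p q a b : ℕ} (hp : p.Prime) (hq : q.Prime) (hne : p ≠ q)
    (hx : x ^ p ^ a = 1) (hy : y ^ q ^ b = 1) : x * y = y * x := by
  haveI : Fact p.Prime := ⟨hp⟩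
  haveI : Fact q.Prime := ⟨hq⟩
  have hP : IsPGroup p (zpowers x) := by
    rw [IsPGroup.iff_orderOf]
    rintro ⟨_, k, rfl⟩
    obtain ⟨j, -, hj⟩ := (Nat.dvd_prime_pow hp).1 (orderOf_dvd_of_pow_eq_one hx)
    have h1 : ((⟨x ^ k, k, rfl⟩ : zpowers x) : K) ^ p ^ a = 1 := by
      change (x ^ k) ^ p ^ a = 1
      rw [← zpow_natCast, zpow_comm, zpow_natCast, hx, one_zpow]
    have h2 : (⟨x ^ k, k, rfl⟩ : zpowers x) ^ p ^ a = 1 := Subtype.ext h1
    obtain ⟨i, -, hi⟩ := (Nat.dvd_prime_pow hp).1 (orderOf_dvd_of_pow_eq_one h2)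
    exact ⟨i, hi⟩
  have hQ : IsPGroup q (zpowers y) := by
    rw [IsPGroup.iff_orderOf]
    rintro ⟨_, k, rfl⟩
    have h1 : ((⟨y ^ k, k, rfl⟩ : zpowers y) : K) ^ q ^ b = 1 := by
      change (y ^ k) ^ q ^ b = 1
      rw [← zpow_natCast, zpow_comm, zpow_natCast, hy, one_zpow]
    have h2 : (⟨y ^ k, k, rfl⟩ : zpowers y) ^ q ^ b = 1 := Subtype.ext h1
    obtain ⟨i, -, hi⟩ := (Nat.dvd_prime_pow hq).1 (orderOf_dvd_of_pow_eq_one h2)
    exact ⟨i, hi⟩
  obtain ⟨P, hPx⟩ := hP.exists_le_sylow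
  obtain ⟨Q, hQy⟩ := hQ.exists_le_sylow
  have hPn : (P : Subgroup K).Normal :=
    Sylow.normal_of_normalizerCondition Group.normalizerCondition_of_isNilpotent P
  have hQn : (Q : Subgroup K).Normal :=
    Sylow.normal_of_normalizerCondition Group.normalizerCondition_of_isNilpotent Q
  exact Subgroup.commute_of_normal_of_disjoint _ _ hPn hQn
    (IsPGroup.disjoint_of_ne p q hne _ _ P.isPGroup' Q.isPGroup') x y (hPx (mem_zpowers x))
    (hQy (mem_zpowers y))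

/-- Lemma H. -/
theorem LH (H : H1 K f) {y v u : K} {r₁ r₂ ℓ a b : ℕ} (hr₁ : r₁.Prime) (hr₂ : r₂.Prime) (hℓ : ℓ.Prime)
    (hne : r₁ ≠ r₂) (hℓ₁ : ℓ ≠ r₁) (hℓ₂ : ℓ ≠ r₂) (hy : y ^ r₁ ^ a = 1) (hv : v ^ r₂ ^ b = 1)
    (hyZ : y ∉ center K) (hvZ : v ∉ center K) (hc : y * v = v * y) (hu : u ∈ center K) (hu1 : u ≠ 1)
    (huℓ : u ^ ℓ = 1) : centralizer ({y} : Set K) = centralizer ({v} : Set K) := by
  have hu' : u ^ ℓ ^ 1 = 1 := by rwa [pow_one]
  have hcomm : Commute y v := hc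
  have hco := pelem_coprime hr₁ hr₂ hne hy hv
  have hst := cen_mul_eq hcomm hco
  have hyvZ : y * v ∉ center K := by
    intro h
    obtain ⟨k, hk⟩ := exists_zpow_eq hcomm hco
    exact hyZ (hk ▸ zpow_mem h k)
  have hpow : (y * v) ^ (r₁ ^ a * r₂ ^ b) = 1 := by
    rw [hcomm.mul_pow, pow_mul y, hy, one_pow, one_mul, mul_comm, pow_mul v, hv, one_pow]
  have hco2 : (orderOf u).Coprime (orderOf (y * v)) := by
    refine Nat.Coprime.coprime_dvd_left (orderOf_dvd_of_pow_eq_one huℓ)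
      (Nat.Coprime.coprime_dvd_right (orderOf_dvd_of_pow_eq_one hpow) ?_)
    exact Nat.Coprime.mul_right (Nat.Coprime.pow_right a ((Nat.coprime_primes hℓ hr₁).2 hℓ₁))
      (Nat.Coprime.pow_right b ((Nat.coprime_primes hℓ hr₂).2 hℓ₂))
  have h1 := H _ u hyvZ hu hu1 hco2
  have h2 := H y u hyZ hu hu1 (pelem_coprime hℓ hr₁ hℓ₁ hu' hy)
  have h3 := H v u hvZ hu hu1 (pelem_coprime hℓ hr₂ hℓ₂ hu' hv)
  have e1 : centralizer ({y * v} : Set K) = centralizer ({y} : Set K) :=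
    eq_of_le_of_index_eq (hst ▸ inf_le_left) (h1.trans h2.symm)
  have e2 : centralizer ({y * v} : Set K) = centralizer ({v} : Set K) :=
    eq_of_le_of_index_eq (hst ▸ inf_le_right) (h1.trans h3.symm)
  rw [← e1, e2]

/-- Lemma W. -/
theorem LW {y : K} (hcsy : cs y = f) {r₂ : ℕ} (hr₂ : r₂.Prime) (hSg : Sg K r₂)
    (hcs2 : ∀ v : K, (∃ k : ℕ, v ^ r₂ ^ k = 1) → v ∉ center K → cs v = f) :
    ∃ v ∈ centralizer ({y} : Set K), (∃ k : ℕ, v ^ r₂ ^ k = 1) ∧ v ∉ center K := by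
  haveI : Fact r₂.Prime := ⟨hr₂⟩
  obtain ⟨v', ⟨k, hk⟩, hv'Z⟩ := hSg
  have hcsv := hcs2 v' ⟨k, hk⟩ hv'Z
  have hZy : center K ≤ centralizer ({y} : Set K) := fun z hz => mem_cen.2 (mem_center_iff.1 hz y).symm
  have hZv : center K ≤ centralizer ({v'} : Set K) := fun z hz => mem_cen.2 (mem_center_iff.1 hz v').symm
  have e1 := Subgroup.relIndex_mul_index hZy
  have e2 := Subgroup.relIndex_mul_index hZv
  have hfpos : 0 < f := by
    rw [← hcsy]
    exact Nat.pos_of_ne_zero Subgroup.index_ne_zero_of_finite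
  have e3 : (center K).relIndex (centralizer ({y} : Set K)) =
      (center K).relIndex (centralizer ({v'} : Set K)) := by
    change _ * cs y = _ at e1
    change _ * cs v' = _ at e2
    rw [hcsy] at e1
    rw [hcsv] at e2
    exact Nat.eq_of_mul_eq_mul_right hfpos (e1.trans e2.symm)
  have hd : r₂ ∣ (center K).relIndex (centralizer ({v'} : Set K)) := by
    by_contra hn
    let C := centralizer ({v'} : Set K)
    haveI hnorm : ((center K).subgroupOf C).Normal := Subgroup.normal_subgroupOf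
    have hv'C : v' ∈ C := mem_cen.2 rfl
    have hco : (orderOf (⟨v', hv'C⟩ : C)).Coprime ((center K).subgroupOf C).index := by
      rw [Subgroup.orderOf_mk]
      exact orderOf_coprime_of_pow hr₂ hk hn
    have := mem_of_coprime_index ((center K).subgroupOf C) hco
    exact hv'Z (Subgroup.mem_subgroupOf.1 this)
  obtain ⟨v, hv, hv2, hv3⟩ := exists_pelem_mem_not_mem _ (center K) (e3 ▸ hd)
  exact ⟨v, hv, hv2, hv3⟩

/-- The case of at least three primes. -/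
theorem three_false (H : H1 K f) {t r₀ : ℕ} (ht : t.Prime) (hr₀ : r₀.Prime) (hne : r₀ ≠ t)
    (hSt : Sg K t) (hSr₀ : Sg K r₀)
    (hgood : ∀ r : ℕ, r.Prime → r ≠ t → ∃ u ∈ center K, u ≠ 1 ∧ ∃ ℓ : ℕ, ℓ.Prime ∧ ℓ ≠ t ∧ ℓ ≠ r ∧ u ^ ℓ = 1) :
    False := by
  classical
  have hprim : ∀ (r : ℕ) (y : K), r.Prime → (∃ k : ℕ, y ^ r ^ k = 1) → y ∉ center K → cs y = f := by
    rintro r y hr ⟨k, hk⟩ hy
    by_cases hrt : r = t
    · subst hrt
      obtain ⟨u, hu, hu1, ℓ, hℓ, hℓt, hℓr, huℓ⟩ := hgood r₀ hr₀ hne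
      have hu' : u ^ ℓ ^ 1 = 1 := by rwa [pow_one]
      exact H y u hy hu hu1 (pelem_coprime hℓ hr hℓt hu' hk)
    · obtain ⟨u, hu, hu1, ℓ, hℓ, hℓt, hℓr, huℓ⟩ := hgood r hr hrt
      have hu' : u ^ ℓ ^ 1 = 1 := by rwa [pow_one]
      exact H y u hy hu hu1 (pelem_coprime hℓ hr hℓr hu' hk)
  have hpair : ∀ (r a b : ℕ) (y v : K), r.Prime → r ≠ t → y ^ r ^ a = 1 → v ^ t ^ b = 1 → y ∉ center K →
      v ∉ center K → y * v = v * y → centralizer ({y} : Set K) = centralizer ({v} : Set K) := by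
    intro r a b y v hr hrt hy hv hyZ hvZ hc
    obtain ⟨u, hu, hu1, ℓ, hℓ, hℓt, hℓr, huℓ⟩ := hgood r hr hrt
    exact LH H hr ht hℓ hrt hℓr hℓt hy hv hyZ hvZ hc hu hu1 huℓ
  -- centralisers of `t`-elements
  have habT : ∀ v : K, (∃ k : ℕ, v ^ t ^ k = 1) → v ∉ center K →
      ∀ c ∈ centralizer ({v} : Set K), ∀ d ∈ centralizer ({v} : Set K), c * d = d * c := by
    rintro v ⟨b, hb⟩ hvZ
    obtain ⟨y₀, hy₀, ⟨a₀, ha₀⟩, hy₀Z⟩ := LW (hprim t v ht ⟨b, hb⟩ hvZ) hr₀ hSr₀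
      (fun w hw hwZ => hprim r₀ w hr₀ hw hwZ)
    have hC₀ := hpair r₀ a₀ b y₀ v hr₀ hne ha₀ hb hy₀Z hvZ (mem_cen.1 hy₀)
    have hCz : ∀ (z : K) (r k : ℕ), r.Prime → z ^ r ^ k = 1 → z ∈ centralizer ({v} : Set K) →
        z ∉ center K → centralizer ({z} : Set K) = centralizer ({v} : Set K) := by
      intro z r k hr hk hzv hzZ
      by_cases hrt : r = t
      · subst hrt
        have hz0 : z ∈ centralizer ({y₀} : Set K) := hC₀ ▸ hzv
        have := hpair r₀ a₀ k y₀ z hr₀ hne ha₀ hk hy₀Z hzZ (mem_cen.1 hz0).symm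
        rw [← this, hC₀]
      · exact hpair r k b z v hr hrt hk hb hzZ hvZ (mem_cen.1 hzv)
    intro c hc d hd
    by_contra hcd
    have hd' : d ∉ centralizer ({c} : Set K) := fun h => hcd (mem_cen.1 h).symm
    obtain ⟨r, k, j, hr, h1, h2⟩ := exists_primary_not_mem _ hd'
    have hdj : d ^ j ∈ centralizer ({v} : Set K) := zpow_mem hd j
    by_cases hdZ : d ^ j ∈ center K
    · exact h2 (mem_cen.2 (mem_center_iff.1 hdZ c).symm)
    · have h3 := hCz (d ^ j) r k hr h1 hdj hdZ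
      have h4 : c ∈ centralizer ({d ^ j} : Set K) := h3 ▸ hc
      exact h2 (mem_cen.2 (mem_cen.1 h4).symm)
  have habAll : ∀ (r : ℕ) (y : K), r.Prime → (∃ k : ℕ, y ^ r ^ k = 1) → y ∉ center K →
      ∀ c ∈ centralizer ({y} : Set K), ∀ d ∈ centralizer ({y} : Set K), c * d = d * c := by
    rintro r y hr ⟨a, ha⟩ hyZ
    by_cases hrt : r = t
    · subst hrt
      exact habT y ⟨a, ha⟩ hyZ
    · obtain ⟨v, hv, ⟨b, hb⟩, hvZ⟩ := LW (hprim r y hr ⟨a, ha⟩ hyZ) ht hSt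
        (fun w hw hwZ => hprim t w ht hw hwZ)
      have := hpair r a b y v hr hrt ha hb hyZ hvZ (mem_cen.1 hv).symm
      rw [this]
      exact habT v ⟨b, hb⟩ hvZ
  -- all noncentral elements have class size `f`
  have hall : ∀ g : K, g ∉ center K → cs g = f := by
    intro g hg
    obtain ⟨r, k, j, hr, h1, h2⟩ := exists_primary_not_mem (center K) hg
    have h3 := hprim r (g ^ j) hr ⟨k, h1⟩ h2
    have hle : centralizer ({g} : Set K) ≤ centralizer ({g ^ j} : Set K) := cen_le_of_zpow ⟨j, rfl⟩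
    have hg2 : g ∈ centralizer ({g ^ j} : Set K) := mem_cen.2 (Commute.self_zpow g j).eq
    have hge : centralizer ({g ^ j} : Set K) ≤ centralizer ({g} : Set K) := by
      intro c hc
      exact mem_cen.2 (habAll r (g ^ j) hr ⟨k, h1⟩ h2 c hc g hg2)
    have : centralizer ({g} : Set K) = centralizer ({g ^ j} : Set K) := le_antisymm hle hge
    change (centralizer ({g} : Set K)).index = f
    rw [this]
    exact h3
  -- nilpotency
  haveI : Fact t.Prime := ⟨ht⟩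
  obtain ⟨v, ⟨b, hb⟩, hvZ⟩ := hSt
  have hvP : IsPGroup t (zpowers v) := by
    rw [IsPGroup.iff_orderOf]
    rintro ⟨_, k, rfl⟩
    have h1 : ((⟨v ^ k, k, rfl⟩ : zpowers v) : K) ^ t ^ b = 1 := by
      change (v ^ k) ^ t ^ b = 1
      rw [← zpow_natCast, zpow_comm, zpow_natCast, hb, one_zpow]
    have h2 : (⟨v ^ k, k, rfl⟩ : zpowers v) ^ t ^ b = 1 := Subtype.ext h1
    obtain ⟨i, -, hi⟩ := (Nat.dvd_prime_pow ht).1 (orderOf_dvd_of_pow_eq_one h2)
    exact ⟨i, hi⟩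
  obtain ⟨R, hR⟩ := hvP.exists_le_sylow
  have hRZ : ¬ (R : Subgroup K) ≤ center K := fun h => hvZ (h (hR (mem_zpowers v)))
  have hnil := Cfsg.Agent.S4135.result t R hRZ ⊤ le_top f (by
    intro x _
    by_cases hx : x ∈ center K
    · exact Or.inl (cs_eq_one_iff.2 hx)
    · exact Or.inr (hall x hx))
  haveI : Group.IsNilpotent K :=
    Group.nilpotent_of_surjective (⊤ : Subgroup K).subtype (fun x => ⟨⟨x, trivial⟩, rfl⟩)
  -- the contradiction
  obtain ⟨y, ⟨a, ha⟩, hyZ⟩ := hSr₀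
  have hyv : y * v = v * y := nil_comm hr₀ ht hne ha hb
  have hC := hpair r₀ a b y v hr₀ hne ha hb hyZ hvZ hyv
  have htop : centralizer ({y} : Set K) = ⊤ := by
    apply eq_top_of_primary
    intro g r k hr hk
    by_cases hrr : r = r₀
    · subst hrr
      rw [hC]
      exact mem_cen.2 (nil_comm hr ht hne hk hb)
    · exact mem_cen.2 (nil_comm hr hr₀ hrr hk ha)
  apply hyZ
  rw [mem_center_iff]
  intro g
  have : g ∈ centralizer ({y} : Set K) := by rw [htop]; trivial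
  exact mem_cen.1 this

/-- **The quotient is a prime power.** -/
theorem prime_power (H : H1 K f) (hdvd : f ∣ Nat.card K) (hZ1 : center K ≠ ⊥) (hZ2 : center K ≠ ⊤) :
    ∃ s n : ℕ, s.Prime ∧ f = s ^ n := by
  classical
  haveI hZnt : Nontrivial (center K) := (Subgroup.nontrivial_iff_ne_bot _).2 hZ1
  obtain ⟨p, hp, hpZ⟩ := Nat.exists_prime_and_dvd (Finite.one_lt_card (α := center K)).ne'
  by_cases hPg : IsPGroup p (center K)
  · obtain ⟨n, hn⟩ := typeP H hdvd hp hPg hZ1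
    exact ⟨p, n, hp, hn⟩
  -- two primes in the centre
  obtain ⟨q, hq, hqZ, hqp⟩ : ∃ q : ℕ, q.Prime ∧ q ∣ Nat.card (center K) ∧ q ≠ p := by
    by_contra hcon
    push Not at hcon
    apply hPg
    exact IsPGroup.of_card (Nat.eq_prime_pow_of_unique_prime_dvd Nat.card_pos.ne'
      (fun {d} hd hdZ => hcon d hd hdZ))
  haveI : Fact p.Prime := ⟨hp⟩
  haveI : Fact q.Prime := ⟨hq⟩
  obtain ⟨up, hup⟩ := exists_prime_orderOf_dvd_card' (G := center K) p hpZ
  obtain ⟨uq, huq⟩ := exists_prime_orderOf_dvd_card' (G := center K) q hqZ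
  have hup1 : ((up : center K) : K) ≠ 1 := by
    intro h
    have : up = 1 := Subtype.ext h
    rw [this, orderOf_one] at hup
    exact hp.one_lt.ne hup
  have huq1 : ((uq : center K) : K) ≠ 1 := by
    intro h
    have : uq = 1 := Subtype.ext h
    rw [this, orderOf_one] at huq
    exact hq.one_lt.ne huq
  have hupp : ((up : center K) : K) ^ p = 1 := by
    have := pow_orderOf_eq_one up
    rw [hup] at this
    simpa using congrArg Subtype.val this
  have huqq : ((uq : center K) : K) ^ q = 1 := by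
    have := pow_orderOf_eq_one uq
    rw [huq] at this
    simpa using congrArg Subtype.val this
  have hgood2 : ∀ r : ℕ, ∃ u ∈ center K, u ≠ 1 ∧ ∃ ℓ : ℕ, ℓ.Prime ∧ ℓ ≠ r ∧ u ^ ℓ = 1 ∧ (ℓ = p ∨ ℓ = q) := by
    intro r
    by_cases hr : p = r
    · exact ⟨uq, uq.2, huq1, q, hq, by omega, huqq, Or.inr rfl⟩
    · exact ⟨up, up.2, hup1, p, hp, hr, hupp, Or.inl rfl⟩
  have hprim : ∀ (r : ℕ) (y : K), r.Prime → (∃ k : ℕ, y ^ r ^ k = 1) → y ∉ center K → cs y = f := by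
    rintro r y hr ⟨k, hk⟩ hy
    obtain ⟨u, hu, hu1, ℓ, hℓ, hℓr, huℓ, -⟩ := hgood2 r
    have hu' : u ^ ℓ ^ 1 = 1 := by rwa [pow_one]
    exact H y u hy hu hu1 (pelem_coprime hℓ hr hℓr hu' hk)
  obtain ⟨r₁, hr₁, hS₁⟩ := exists_Sg hZ2
  by_cases hone : ∀ r : ℕ, r.Prime → Sg K r → r = r₁
  · -- only one prime in the central quotient
    obtain ⟨y, ⟨k, hk⟩, hyZ⟩ := hS₁
    have h1 := hprim r₁ y hr₁ ⟨k, hk⟩ hyZ
    have h2 : (center K).index = r₁ ^ (center K).index.primeFactorsList.length :=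
      Nat.eq_prime_pow_of_unique_prime_dvd Subgroup.index_ne_zero_of_finite
        (fun {d} hd hdi => hone d hd (Sg_of_dvd_index hd hdi))
    have h3 : cs y ∣ (center K).index := Subgroup.index_dvd_of_le
      (fun z hz => mem_cen.2 (mem_center_iff.1 hz y).symm)
    rw [h1, h2] at h3
    obtain ⟨j, -, hj⟩ := (Nat.dvd_prime_pow hr₁).1 h3
    exact ⟨r₁, j, hr₁, hj⟩
  push Not at hone
  obtain ⟨r₂, hr₂, hS₂, hr₂₁⟩ := hone
  by_cases hthree : ∃ t₃ : ℕ, t₃.Prime ∧ t₃ ∣ Nat.card K ∧ t₃ ≠ p ∧ t₃ ≠ q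
  · exfalso
    obtain ⟨t₃, ht₃, ht₃K, ht₃p, ht₃q⟩ := hthree
    by_cases ht₃Z : t₃ ∣ Nat.card (center K)
    · -- three primes in the centre
      haveI : Fact t₃.Prime := ⟨ht₃⟩
      obtain ⟨u3, hu3⟩ := exists_prime_orderOf_dvd_card' (G := center K) t₃ ht₃Z
      have hu31 : ((u3 : center K) : K) ≠ 1 := by
        intro h
        have : u3 = 1 := Subtype.ext h
        rw [this, orderOf_one] at hu3
        exact ht₃.one_lt.ne hu3
      have hu33 : ((u3 : center K) : K) ^ t₃ = 1 := by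
        have := pow_orderOf_eq_one u3
        rw [hu3] at this
        simpa using congrArg Subtype.val this
      have hgood : ∀ t r : ℕ, r ≠ t → ∃ u ∈ center K, u ≠ 1 ∧ ∃ ℓ : ℕ, ℓ.Prime ∧ ℓ ≠ t ∧ ℓ ≠ r ∧ u ^ ℓ = 1 := by
        intro t r _
        by_cases h1 : p ≠ t ∧ p ≠ r
        · exact ⟨up, up.2, hup1, p, hp, h1.1, h1.2, hupp⟩
        by_cases h2 : q ≠ t ∧ q ≠ r
        · exact ⟨uq, uq.2, huq1, q, hq, h2.1, h2.2, huqq⟩
        · refine ⟨u3, u3.2, hu31, t₃, ht₃, ?_, ?_, hu33⟩ <;> omega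
      by_cases h1 : r₂ = r₁
      · exact hr₂₁ h1
      · exact three_false H hr₁ hr₂ h1 hS₁ hS₂ (fun r _ hrt => hgood r₁ r hrt)
    · -- `t₃` occurs in the central quotient
      have hdvd2 : t₃ ∣ (center K).index := by
        have e := Subgroup.index_mul_card (center K)
        rw [← e] at ht₃K
        exact (Nat.Prime.dvd_mul ht₃).1 ht₃K |>.resolve_right ht₃Z
      have hS₃ := Sg_of_dvd_index ht₃ hdvd2
      have hgood : ∀ r : ℕ, r.Prime → r ≠ t₃ → ∃ u ∈ center K, u ≠ 1 ∧ ∃ ℓ : ℕ, ℓ.Prime ∧ ℓ ≠ t₃ ∧ ℓ ≠ r ∧ u ^ ℓ = 1 := by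
        intro r _ _
        obtain ⟨u, hu, hu1, ℓ, hℓ, hℓr, huℓ, h4⟩ := hgood2 r
        refine ⟨u, hu, hu1, ℓ, hℓ, ?_, hℓr, huℓ⟩
        omega
      by_cases h1 : r₁ = t₃
      · subst h1
        exact three_false H hr₁ hr₂ hr₂₁ hS₁ hS₂ hgood
      · exact three_false H ht₃ hr₁ h1 hS₃ hS₁ hgood
  · -- two primes altogether
    push Not at hthree
    obtain ⟨i, j, hij⟩ := card_of_two_primes (n := Nat.card K) Nat.card_pos.ne' hp hq (by
      intro r hr hrK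
      by_cases h1 : r = p
      · exact Or.inl h1
      · exact Or.inr (hthree r hr hrK h1))
    haveI : Group.IsSolvable K := Cfsg.Agent.Lib.Char.Burnside.isSolvable_of_card_eq p q i j hp hq hij
    exact ThmF.thmF hZ2 (fun y hy r k hr hk => hprim r y hr ⟨k, hk⟩ hy)

end Cfsg.Agent.Lib.ThreeCl.PP
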