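import Cfsg.Agent.Lib.ThreeCl.Cases
import Cfsg.Agent.Lib.ThreeCl.NCG
import Cfsg.Agent.S4138

/-!
# Centerless groups with at most three nontrivial class sizes
-/

set_option autoImplicit false
set_option linter.style.haveILetI false
set_option linter.unusedSectionVars false
set_option linter.unusedVariables false

namespace Cfsg.Agent.Lib.ThreeCl.Top

open Subgroup Cfsg
open Cfsg.Agent.Lib.ClassGraph.Basic Cfsg.Agent.Lib.ClassGraph.Top Cfsg.Agent.Lib.ThreeCl
open Cfsg.Agent.Lib.Rank3.NoChain (NC exists_center_sylow)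

universe u

theorem third' {A B C a e : ℕ} (hAB : A ≠ B) (hAC : A ≠ C) (hBC : B ≠ C) (ha : a = A ∨ a = B ∨ a = C)
    (he : e = A ∨ e = B ∨ e = C) (hae : a ≠ e) :
    ∃ b, (b = A ∨ b = B ∨ b = C) ∧ b ≠ a ∧ b ≠ e ∧ ∀ m, (m = A ∨ m = B ∨ m = C) → m = a ∨ m = b ∨ m = e := by
  rcases ha with h | h | h <;> rcases he with h' | h' | h' <;>
    first
    | omega
    | exact ⟨A, by omega, by omega, by omega, by intro m hm; omega⟩
    | exact ⟨B, by omega, by omega, by omega, by intro m hm; omega⟩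
    | exact ⟨C, by omega, by omega, by omega, by intro m hm; omega⟩

variable {G : Type u} [Group G] [Finite G]

/-- A prime dividing the order does not divide the class sizes of all nonidentity elements. -/
theorem exists_not_dvd {p : ℕ} (hp : p.Prime) (hpG : p ∣ Nat.card G) :
    ∃ z : G, z ≠ 1 ∧ ¬ p ∣ cs z := by
  haveI : Fact p.Prime := ⟨hp⟩
  obtain ⟨P⟩ : Nonempty (Sylow p G) := inferInstance
  obtain ⟨z, -, hz1, hPz⟩ := exists_center_sylow P (P.ne_bot_of_dvd_card hpG)
  exact ⟨z, hz1, fun h => P.not_dvd_index (h.trans (Subgroup.index_dvd_of_le hPz))⟩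

theorem dvd_card_of_cs {p : ℕ} {x : G} (h : p ∣ cs x) : p ∣ Nat.card G :=
  h.trans (Subgroup.index_dvd_card _)

/-- One class size is impossible. -/
theorem main1 {A : ℕ} (hZ : center G = ⊥) (hmem : ∀ g : G, g ≠ 1 → cs g = A) {x : G} (hx : x ≠ 1) :
    False := by
  have h1 : cs x ≠ 1 := by
    intro h
    have := cs_eq_one_iff.1 h
    rw [hZ, Subgroup.mem_bot] at this
    exact hx this
  obtain ⟨p, hp, hpA⟩ := Nat.exists_prime_and_dvd h1
  obtain ⟨z, hz1, hz⟩ := exists_not_dvd hp (dvd_card_of_cs hpA)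
  rw [hmem z hz1, ← hmem x hx] at hz
  exact hz hpA

theorem ab_nil {L : Subgroup G} (h : IsMulCommutative L) : Group.IsNilpotent L := by
  letI : CommGroup L := { (inferInstance : Group L) with mul_comm := fun a b => h.is_comm.comm a b }
  infer_instance

/-- Two coprime class sizes. -/
theorem main2' {m n : ℕ} (hZ : center G = ⊥) (hmn : n < m) (hn : 1 < n) (hcop : m.Coprime n)
    (hmem : ∀ g : G, g ≠ 1 → cs g = m ∨ cs g = n) {x y : G} (hx : cs x = n) (hy : cs y = m) :
    Group.IsSolvable G := by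
  have hind : ∀ z : G, z = 1 ∨ cs z = m ∨ cs z = n := by
    intro z
    by_cases hz : z = 1
    · exact Or.inl hz
    · exact Or.inr (hmem z hz)
  have hone : cs (1 : G) = 1 := cs_eq_one_iff.2 (one_mem _)
  obtain ⟨h1, h2, -, -⟩ := Cfsg.Agent.S4138.result m n hmn hn hcop (by
      intro z
      rcases hind z with rfl | h | h
      · change cs (1 : G) ≤ m
        omega
      · exact h.le
      · change cs z ≤ m
        omega) (by
      intro z hz
      rcases hind z with rfl | h | h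
      · change cs (1 : G) ≤ n
        omega
      · change cs z < m at hz
        omega
      · exact h.le) x y hx hy
  refine Cfsg.Agent.S0564.result _ _ (ab_nil h1) (ab_nil h2) ?_
  intro g
  exact exists_mul_of_coprime (by rw [hx, hy]; exact hcop.symm) g

/-- Two class sizes. -/
theorem main2 {A B : ℕ} (hZ : center G = ⊥) (hAB : A ≠ B)
    (hmem : ∀ g : G, g ≠ 1 → cs g = A ∨ cs g = B) {x y : G} (hx1 : x ≠ 1) (hy1 : y ≠ 1)
    (hx : cs x = A) (hy : cs y = B) : Group.IsSolvable G := by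
  have h1lt : ∀ g : G, g ≠ 1 → 1 < cs g := by
    intro g hg
    have h1 : cs g ≠ 1 := by
      intro h
      have := cs_eq_one_iff.1 h
      rw [hZ, Subgroup.mem_bot] at this
      exact hg this
    have h2 : 0 < cs g := Nat.pos_of_ne_zero Subgroup.index_ne_zero_of_finite
    omega
  have hcop : A.Coprime B := by
    by_contra hnot
    obtain ⟨p, hp, hpA, hpB⟩ := Nat.Prime.not_coprime_iff_dvd.1 hnot
    obtain ⟨z, hz1, hz⟩ := exists_not_dvd hp (dvd_card_of_cs (x := x) (hx ▸ hpA))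
    rcases hmem z hz1 with h | h
    · exact hz (h ▸ hpA)
    · exact hz (h ▸ hpB)
  rcases lt_or_gt_of_ne hAB with h | h
  · exact main2' hZ h (hx ▸ h1lt x hx1) hcop.symm (fun g hg => (hmem g hg).symm) hx hy
  · exact main2' hZ h (hy ▸ h1lt y hy1) hcop hmem hy hx

/-- Three class sizes. -/
theorem main3 {A B C : ℕ} (hZ : center G = ⊥) (hAB : A ≠ B) (hAC : A ≠ C) (hBC : B ≠ C)
    (hmem : ∀ g : G, g ≠ 1 → cs g = A ∨ cs g = B ∨ cs g = C)
    (hex : ∀ m : ℕ, (m = A ∨ m = B ∨ m = C) → ∃ x : G, x ≠ 1 ∧ cs x = m) :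
    Group.IsSolvable G ∨
      ∃ n : ℕ, 0 < n ∧ Nonempty (G ≃* Matrix.ProjectiveSpecialLinearGroup (Fin 2) (GaloisField 2 n)) := by
  classical
  by_cases hchain : ∃ x y : G, x ≠ 1 ∧ y ≠ 1 ∧ centralizer ({y} : Set G) ≤ centralizer ({x} : Set G) ∧
      centralizer ({y} : Set G) ≠ centralizer ({x} : Set G)
  · left
    obtain ⟨x, y, hx, hy, hle, hne⟩ := hchain
    have hdvd : cs x ∣ cs y := Subgroup.index_dvd_of_le hle
    have hae : cs x ≠ cs y := fun e => hne (eq_of_le_of_index_eq hle e.symm)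
    have hlt : cs x < cs y :=
      lt_of_le_of_ne (Nat.le_of_dvd (Nat.pos_of_ne_zero Subgroup.index_ne_zero_of_finite) hdvd) hae
    obtain ⟨b, hb, hba, hbe, hall⟩ := third' hAB hAC hBC (hmem x hx) (hmem y hy) hae
    obtain ⟨w, hw1, hw⟩ := hex b hb
    have hcop : (cs x).Coprime b := by
      by_contra hnot
      obtain ⟨p, hp, hpa, hpb⟩ := Nat.Prime.not_coprime_iff_dvd.1 hnot
      obtain ⟨z, hz1, hz⟩ := exists_not_dvd hp (dvd_card_of_cs hpa)
      rcases hall (cs z) (hmem z hz1) with h | h | h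
      · exact hz (h ▸ hpa)
      · exact hz (h ▸ hpb)
      · exact hz (h ▸ hpa.trans hdvd)
    have H : CS.Hy G (cs x) b (cs y) :=
      { sz := fun g hg => hall (cs g) (hmem g hg)
        cop := hcop
        dvd := hdvd
        lt := hlt
        exA := ⟨x, hx, rfl⟩
        exB := ⟨w, hw1, hw⟩
        cen := hZ
        exE := ⟨y, hy, rfl⟩ }
    exact Cases.chain_main H
  · push Not at hchain
    have hNC : NC G :=
      { cen := hZ
        nest := fun x y hx hy hle => hchain x y hx hy hle }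
    obtain ⟨y₁, hy₁, e₁⟩ := hex A (Or.inl rfl)
    obtain ⟨y₂, hy₂, e₂⟩ := hex B (Or.inr (Or.inl rfl))
    obtain ⟨y₃, hy₃, e₃⟩ := hex C (Or.inr (Or.inr rfl))
    refine NCG.main_nc hNC hy₁ hy₂ hy₃ (fun g hg => ?_)
    rw [e₁, e₂, e₃]
    exact hmem g hg

/-- **The theorem.** -/
theorem main (hZ : center G = ⊥)
    (h : Nat.card {n : ℕ | 1 < n ∧ ∃ x : G, (centralizer ({x} : Set G)).index = n} ≤ 3) :
    Group.IsSolvable G ∨
      ∃ a : ℕ, 0 < a ∧ Nonempty (G ≃* Matrix.ProjectiveSpecialLinearGroup (Fin 2) (GaloisField 2 a)) := by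
  classical
  set S : Set ℕ := {n : ℕ | 1 < n ∧ ∃ x : G, (centralizer ({x} : Set G)).index = n} with hS
  have hcard : S.ncard ≤ 3 := by
    rwa [Nat.card_coe_set_eq] at h
  have h1lt : ∀ g : G, g ≠ 1 → 1 < cs g := by
    intro g hg
    have h1 : cs g ≠ 1 := by
      intro h
      have := cs_eq_one_iff.1 h
      rw [hZ, Subgroup.mem_bot] at this
      exact hg this
    have h2 : 0 < cs g := Nat.pos_of_ne_zero Subgroup.index_ne_zero_of_finite
    omega
  have hmemS : ∀ g : G, g ≠ 1 → cs g ∈ S := fun g hg => ⟨h1lt g hg, g, rfl⟩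
  have hexS : ∀ m ∈ S, ∃ x : G, x ≠ 1 ∧ cs x = m := by
    rintro m ⟨hm, x, rfl⟩
    refine ⟨x, ?_, rfl⟩
    rintro rfl
    have : cs (1 : G) = 1 := cs_eq_one_iff.2 (one_mem _)
    change 1 < cs (1 : G) at hm
    omega
  have hcases : S.ncard = 0 ∨ S.ncard = 1 ∨ S.ncard = 2 ∨ S.ncard = 3 := by omega
  have hfin : S.Finite := by
    apply Set.Finite.subset (Set.finite_range (fun x : G => cs x))
    rintro m ⟨-, x, rfl⟩
    exact ⟨x, rfl⟩
  rcases hcases with h0 | h1 | h2 | h3
  · left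
    have hemp : S = ∅ := (Set.ncard_eq_zero hfin).1 h0
    have hall : ∀ g : G, g = 1 := by
      intro g
      by_contra hg
      have := hmemS g hg
      rw [hemp] at this
      exact this
    haveI : Subsingleton G := ⟨fun a b => by rw [hall a, hall b]⟩
    infer_instance
  · exfalso
    obtain ⟨A, hA⟩ := Set.ncard_eq_one.1 h1
    have hAS : A ∈ S := by rw [hA]; rfl
    obtain ⟨x, hx, -⟩ := hexS A hAS
    refine main1 (A := A) hZ (fun g hg => ?_) hx
    have := hmemS g hg
    rw [hA] at this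
    exact this
  · left
    obtain ⟨A, B, hAB, hAB2⟩ := Set.ncard_eq_two.1 h2
    obtain ⟨x, hx, hxA⟩ := hexS A (by rw [hAB2]; simp)
    obtain ⟨y, hy, hyB⟩ := hexS B (by rw [hAB2]; simp)
    refine main2 hZ hAB (fun g hg => ?_) hx hy hxA hyB
    have := hmemS g hg
    rw [hAB2] at this
    simpa using this
  · obtain ⟨A, B, C, hAB, hAC, hBC, hS2⟩ := Set.ncard_eq_three.1 h3
    refine main3 hZ hAB hAC hBC (fun g hg => ?_) (fun m hm => ?_)
    · have := hmemS g hg
      rw [hS2] at this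
      simpa using this
    · apply hexS
      rw [hS2]
      simpa using hm

end Cfsg.Agent.Lib.ThreeCl.Top
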